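import Groth.Agent.Hensel.K145.Univ
import Groth.Agent.Hensel.PairLift
import Mathlib.RingTheory.Extension.Presentation.Core

/-!
Étale neighbourhoods of a pair `(R, I)` and the henselization as their colimit.
-/

set_option autoImplicit false

universe u

open TensorProduct

namespace K145.Nbhd

open K145.Univ Groth.Agent.Etalg.PtEt Groth.Agent.Etalg.PtEtSystem Groth.Agent.Etalg.PtEtHens
  Groth.Agent.Etalg.PairHens Groth.Agent.Etalg.PairHens2

/-- `R'` is an étale neighbourhood of the pair `(R, I)`: étale with `R/I → R'/IR'` bijective. -/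
structure IsNbhd (R : Type u) [CommRing R] (I : Ideal R) (R' : Type u) [CommRing R']
    [Algebra R R'] : Prop where
  etale : Algebra.Etale R R'
  bij : Function.Bijective
    (Ideal.quotientMap (I.map (algebraMap R R')) (algebraMap R R') Ideal.le_comap_map)

section Basic

variable {R : Type u} [CommRing R] {I : Ideal R}

/-- Bijectivity modulo `I` in elementary terms. -/
theorem bij_iff {R' : Type u} [CommRing R'] [Algebra R R'] :
    Function.Bijective
      (Ideal.quotientMap (I.map (algebraMap R R')) (algebraMap R R') Ideal.le_comap_map) ↔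
    (∀ x : R', ∃ r : R, x - algebraMap R R' r ∈ I.map (algebraMap R R')) ∧
      (∀ r : R, algebraMap R R' r ∈ I.map (algebraMap R R') → r ∈ I) := by
  constructor
  · rintro ⟨h1, h2⟩
    constructor
    · intro x
      obtain ⟨y, hy⟩ := h2 (Ideal.Quotient.mk _ x)
      obtain ⟨r, rfl⟩ := Ideal.Quotient.mk_surjective y
      rw [Ideal.quotientMap_mk, eq_comm, Ideal.Quotient.eq] at hy
      exact ⟨r, hy⟩
    · intro r hr
      rw [← Ideal.Quotient.eq_zero_iff_mem]
      apply h1
      rw [Ideal.quotientMap_mk, map_zero, Ideal.Quotient.eq_zero_iff_mem]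
      exact hr
  · rintro ⟨h1, h2⟩
    constructor
    · rw [injective_iff_map_eq_zero]
      intro x hx
      obtain ⟨a, rfl⟩ := Ideal.Quotient.mk_surjective x
      rw [Ideal.quotientMap_mk, Ideal.Quotient.eq_zero_iff_mem] at hx
      exact Ideal.Quotient.eq_zero_iff_mem.2 (h2 a hx)
    · intro y
      obtain ⟨x, rfl⟩ := Ideal.Quotient.mk_surjective y
      obtain ⟨r, hr⟩ := h1 x
      refine ⟨Ideal.Quotient.mk _ r, ?_⟩
      rw [Ideal.quotientMap_mk, eq_comm, Ideal.Quotient.eq]
      exact hr

theorem IsNbhd.exists_sub_mem {R' : Type u} [CommRing R'] [Algebra R R'] (h : IsNbhd R I R')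
    (x : R') : ∃ r : R, x - algebraMap R R' r ∈ I.map (algebraMap R R') := (bij_iff.1 h.bij).1 x

theorem IsNbhd.mem_of_map_mem {R' : Type u} [CommRing R'] [Algebra R R'] (h : IsNbhd R I R')
    (r : R) (hr : algebraMap R R' r ∈ I.map (algebraMap R R')) : r ∈ I := (bij_iff.1 h.bij).2 r hr

theorem ph_exists_sub_mem {B : Type u} [CommRing B] [Algebra R B]
    (h : Hens2.IsPairHenselization R I B) (x : B) :
    ∃ r : R, x - algebraMap R B r ∈ I.map (algebraMap R B) := (bij_iff.1 (quot_bijective B h)).1 x

theorem ph_mem_of_map_mem {B : Type u} [CommRing B] [Algebra R B]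
    (h : Hens2.IsPairHenselization R I B) (r : R)
    (hr : algebraMap R B r ∈ I.map (algebraMap R B)) : r ∈ I :=
  (bij_iff.1 (quot_bijective B h)).2 r hr

/-- The extension property of an étale algebra `R'` such that `R → R'/IR'` is surjective with kernel in `I`. -/
theorem IsNbhd.hequiv {R' : Type u} [CommRing R'] [Algebra R R'] (h : IsNbhd R I R') :
    HEquiv R I R' := by
  intro C _ J f hC hJ
  have := h.etale
  have := hC
  let _ : Algebra R C := f.toAlgebra
  have hJ' : I ≤ J.comap f := Ideal.map_le_iff_le_comap.1 hJ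
  let e := (RingEquiv.ofBijective _ h.bij).symm
  have he : ∀ r : R, e (Ideal.Quotient.mk _ (algebraMap R R' r)) = Ideal.Quotient.mk I r := by
    intro r
    rw [RingEquiv.symm_apply_eq]
    rfl
  let σ : R' →ₐ[R] C ⧸ J :=
    { ((Ideal.quotientMap J f hJ').comp e.toRingHom).comp (Ideal.Quotient.mk _) with
      commutes' := fun r => by
        change Ideal.quotientMap J f hJ' (e (Ideal.Quotient.mk _ (algebraMap R R' r))) = _
        rw [he, Ideal.quotientMap_mk]
        rfl }
  obtain ⟨g, hg, hgu⟩ := Groth.Agent.Hensel.PairLift.existsUnique_algHom_lift J σ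
  refine ⟨g.toRingHom, g.comp_algebraMap, fun k hk => ?_⟩
  let k' : R' →ₐ[R] C := { k with commutes' := fun r => congrArg (fun f : R →+* C => f r) hk }
  have : k' = g := by
    apply hgu
    refine AlgHom.ext fun x => ?_
    obtain ⟨r, hr⟩ := h.exists_sub_mem x
    have h1 : ∀ G : R' →ₐ[R] C, Ideal.Quotient.mk J (G x) = Ideal.Quotient.mk J (f r) := by
      intro G
      rw [Ideal.Quotient.eq]
      have h2 := Ideal.mem_map_of_mem G.toRingHom hr
      rw [Ideal.map_map, show G.toRingHom.comp (algebraMap R R') = f from G.comp_algebraMap] at h2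
      have h3 := hJ h2
      have h4 : G (x - algebraMap R R' r) = G x - f r := by
        rw [map_sub, AlgHom.commutes]; rfl
      rw [← h4]; exact h3
    have h5 : σ x = Ideal.Quotient.mk J (f r) := by
      have := congrArg (fun f : R' →ₐ[R] C ⧸ J => f x) hg
      rw [← this]
      exact h1 g
    rw [h5]
    exact h1 k'
  rw [← this]

/-- A henselization of an étale neighbourhood is a henselization. -/
theorem IsNbhd.ph_down {R' B : Type u} [CommRing R'] [Algebra R R'] [CommRing B]
    [Algebra R B] [Algebra R' B] [IsScalarTower R R' B] (h : IsNbhd R I R')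
    (hB : Hens2.IsPairHenselization R' (I.map (algebraMap R R')) B) :
    Hens2.IsPairHenselization R I B := isPairHenselization_of_hequiv h.hequiv hB

theorem IsNbhd.ph_up {R' B : Type u} [CommRing R'] [Algebra R R'] [CommRing B]
    [Algebra R B] [Algebra R' B] [IsScalarTower R R' B] (h : IsNbhd R I R')
    (hB : Hens2.IsPairHenselization R I B) :
    Hens2.IsPairHenselization R' (I.map (algebraMap R R')) B := isPairHenselization_up h.hequiv hB

/-- Composition of étale neighbourhoods. -/
theorem IsNbhd.trans {R' R'' : Type u} [CommRing R'] [Algebra R R'] [CommRing R'']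
    [Algebra R R''] [Algebra R' R''] [IsScalarTower R R' R''] (h : IsNbhd R I R')
    (h' : IsNbhd R' (I.map (algebraMap R R')) R'') : IsNbhd R I R'' := by
  have := h.etale
  have := h'.etale
  have hI : (I.map (algebraMap R R')).map (algebraMap R' R'') = I.map (algebraMap R R'') := by
    rw [Ideal.map_map, ← IsScalarTower.algebraMap_eq]
  refine ⟨Algebra.Etale.comp R R' R'', bij_iff.2 ⟨fun x => ?_, fun r hr => ?_⟩⟩
  · obtain ⟨y, hy⟩ := h'.exists_sub_mem x
    obtain ⟨r, hr⟩ := h.exists_sub_mem y
    refine ⟨r, ?_⟩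
    rw [hI] at hy
    have h1 := Ideal.mem_map_of_mem (algebraMap R' R'') hr
    rw [hI, map_sub, ← IsScalarTower.algebraMap_apply] at h1
    have := add_mem hy h1
    rwa [sub_add_sub_cancel] at this
  · apply h.mem_of_map_mem
    apply h'.mem_of_map_mem
    rw [hI, ← IsScalarTower.algebraMap_apply]
    exact hr

/-- Localization at an element which is a unit modulo `I`. -/
theorem isNbhd_of_isLocalization_away (g : R) (hg : IsUnit (Ideal.Quotient.mk I g)) (R' : Type u)
    [CommRing R'] [Algebra R R'] [IsLocalization.Away g R'] : IsNbhd R I R' := by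
  obtain ⟨h, hh⟩ := hg.exists_right_inv
  obtain ⟨h, rfl⟩ := Ideal.Quotient.mk_surjective h
  rw [← map_mul, ← map_one (Ideal.Quotient.mk I), Ideal.Quotient.eq] at hh
  refine ⟨Algebra.Etale.of_isLocalizationAway g, bij_iff.2 ⟨fun x => ?_, fun r hr => ?_⟩⟩
  · obtain ⟨r, s, rfl⟩ := IsLocalization.exists_mk'_eq (Submonoid.powers g) x
    obtain ⟨_, n, rfl⟩ := s
    refine ⟨r * h ^ n, ?_⟩
    have h1 : (1 : R) - (g * h) ^ n ∈ I := by
      have := sub_dvd_pow_sub_pow (g * h) 1 n
      rw [one_pow] at this
      rw [← neg_mem_iff, neg_sub]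
      exact Ideal.mem_of_dvd I this hh
    have h2 : IsLocalization.mk' R' r (⟨g ^ n, n, rfl⟩ : Submonoid.powers g) -
        algebraMap R R' (r * h ^ n) =
        IsLocalization.mk' R' r (⟨g ^ n, n, rfl⟩ : Submonoid.powers g) *
          algebraMap R R' (1 - (g * h) ^ n) := by
      have hs : IsLocalization.mk' R' r (⟨g ^ n, n, rfl⟩ : Submonoid.powers g) *
          algebraMap R R' (g ^ n) = algebraMap R R' r :=
        IsLocalization.mk'_spec R' r (⟨g ^ n, n, rfl⟩ : Submonoid.powers g)
      generalize IsLocalization.mk' R' r (⟨g ^ n, n, rfl⟩ : Submonoid.powers g) = z at hs ⊢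
      rw [map_sub, map_one, mul_pow, map_mul (algebraMap R R') (g ^ n), map_mul]
      linear_combination algebraMap R R' (h ^ n) * hs
    rw [h2]
    exact Ideal.mul_mem_left _ _ (Ideal.mem_map_of_mem _ h1)
  · rw [IsLocalization.mem_map_algebraMap_iff (Submonoid.powers g)] at hr
    obtain ⟨⟨⟨a, ha⟩, ⟨_, n, rfl⟩⟩, hx⟩ := hr
    simp only at hx
    rw [← map_mul] at hx
    obtain ⟨⟨_, m, rfl⟩, hc⟩ := (IsLocalization.eq_iff_exists (Submonoid.powers g) R').1 hx
    simp only at hc
    have h1 : g ^ m * (r * g ^ n) ∈ I := by rw [hc]; exact Ideal.mul_mem_left _ _ ha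
    have h2 : Ideal.Quotient.mk I r = 0 := by
      have h3 : Ideal.Quotient.mk I (g ^ (m + n)) * Ideal.Quotient.mk I r = 0 := by
        rw [← map_mul, Ideal.Quotient.eq_zero_iff_mem]
        have : g ^ (m + n) * r = g ^ m * (r * g ^ n) := by ring
        rw [this]; exact h1
      have h4 : IsUnit (Ideal.Quotient.mk I (g ^ (m + n))) := by
        rw [map_pow]
        apply IsUnit.pow
        refine IsUnit.of_mul_eq_one (Ideal.Quotient.mk I h) ?_
        rw [← map_mul, ← map_one (Ideal.Quotient.mk I), Ideal.Quotient.eq]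
        exact hh
      exact (h4.mul_right_eq_zero).1 h3
    exact Ideal.Quotient.eq_zero_iff_mem.1 h2

theorem isNbhd_away (g : R) (hg : IsUnit (Ideal.Quotient.mk I g)) :
    IsNbhd R I (Localization.Away g) := isNbhd_of_isLocalization_away g hg _

theorem isUnit_mk_of_sub_one_mem {g : R} (hg : g - 1 ∈ I) : IsUnit (Ideal.Quotient.mk I g) := by
  have : Ideal.Quotient.mk I g = 1 := by
    rw [← map_one (Ideal.Quotient.mk I), Ideal.Quotient.eq]; exact hg
  rw [this]; exact isUnit_one

theorem isNbhd_away_of_sub_one_mem (g : R) (hg : g - 1 ∈ I) : IsNbhd R I (Localization.Away g) :=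
  isNbhd_away g (isUnit_mk_of_sub_one_mem hg)

theorem isNbhd_self : IsNbhd R I R := by
  refine ⟨inferInstance, bij_iff.2 ⟨fun x => ⟨x, ?_⟩, fun r hr => ?_⟩⟩
  · simp
  · simpa [Ideal.map_id] using hr

/-- transport of neighbourhoods along isomorphisms -/
theorem IsNbhd.of_equiv {R' R'' : Type u} [CommRing R'] [Algebra R R'] [CommRing R'']
    [Algebra R R''] (h : IsNbhd R I R') (e : R' ≃ₐ[R] R'') : IsNbhd R I R'' := by
  have := h.etale
  have hmap : (I.map (algebraMap R R')).map (e : R' →ₐ[R] R'').toRingHom =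
      I.map (algebraMap R R'') := by
    rw [Ideal.map_map]
    congr 1
    exact (e : R' →ₐ[R] R'').comp_algebraMap
  have hmap' : (I.map (algebraMap R R'')).map (e.symm : R'' →ₐ[R] R').toRingHom =
      I.map (algebraMap R R') := by
    rw [Ideal.map_map]
    congr 1
    exact (e.symm : R'' →ₐ[R] R').comp_algebraMap
  refine ⟨Algebra.Etale.of_equiv e, bij_iff.2 ⟨fun x => ?_, fun r hr => ?_⟩⟩
  · obtain ⟨r, hr⟩ := h.exists_sub_mem (e.symm x)
    refine ⟨r, ?_⟩
    have := Ideal.mem_map_of_mem (e : R' →ₐ[R] R'').toRingHom hr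
    rw [hmap] at this
    change e (e.symm x - algebraMap R R' r) ∈ _ at this
    rwa [map_sub, AlgEquiv.apply_symm_apply, AlgEquiv.commutes] at this
  · apply h.mem_of_map_mem
    have := Ideal.mem_map_of_mem (e.symm : R'' →ₐ[R] R').toRingHom hr
    rw [hmap'] at this
    change e.symm (algebraMap R R'' r) ∈ _ at this
    rwa [AlgEquiv.commutes] at this

/-- the neighbourhood attached to a pointed étale algebra -/
theorem exists_nbhd_of_point {S : Type u} [CommRing S] [Algebra R S] [Algebra.Etale R S]
    (σ : S →ₐ[R] R ⧸ I) : ∃ e : S, σ e = 1 ∧ IsNbhd R I (Localization.Away e) := by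
  obtain ⟨e, he1, he⟩ := exists_mul_mem σ
  refine ⟨e, he1, Algebra.Etale.comp R S (Localization.Away e), bij_iff.2 ⟨fun x => ?_, fun r hr => ?_⟩⟩
  · have hIe : (I.map (algebraMap R S)).map (algebraMap S (Localization.Away e)) =
        I.map (algebraMap R (Localization.Away e)) := by
      rw [Ideal.map_map, ← IsScalarTower.algebraMap_eq]
    have hu : IsUnit (algebraMap S (Localization.Away e) e) := IsLocalization.Away.algebraMap_isUnit e
    -- elements of `S` in the kernel of `σ`
    have hk : ∀ x : S, σ x = 0 → algebraMap S (Localization.Away e) x ∈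
        I.map (algebraMap R (Localization.Away e)) := by
      intro x hx
      have := Ideal.mem_map_of_mem (algebraMap S (Localization.Away e)) (he x hx)
      rw [hIe, map_mul] at this
      exact (Ideal.mul_unit_mem_iff_mem _ hu).1 this
    obtain ⟨y, s, rfl⟩ := IsLocalization.exists_mk'_eq (Submonoid.powers e) x
    obtain ⟨_, n, rfl⟩ := s
    obtain ⟨r, hr⟩ := Ideal.Quotient.mk_surjective (σ y)
    refine ⟨r, ?_⟩
    have h1 := hk (y - e ^ n * algebraMap R S r) (by
      rw [map_sub, map_mul, map_pow, he1, one_pow, one_mul, AlgHom.commutes, ← hr, sub_eq_zero]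
      rfl)
    have h2 : (IsLocalization.mk' (Localization.Away e) y (⟨e ^ n, n, rfl⟩ : Submonoid.powers e) -
        algebraMap R (Localization.Away e) r) * algebraMap S (Localization.Away e) (e ^ n) =
        algebraMap S (Localization.Away e) (y - e ^ n * algebraMap R S r) := by
      rw [sub_mul, IsLocalization.mk'_spec (Localization.Away e) y
        (⟨e ^ n, n, rfl⟩ : Submonoid.powers e), map_sub, map_mul, ← IsScalarTower.algebraMap_apply,
        mul_comm (algebraMap R (Localization.Away e) r)]
    rw [← h2] at h1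
    refine (Ideal.mul_unit_mem_iff_mem _ ?_).1 h1
    rw [map_pow]; exact hu.pow n
  · -- `σ` extends to the localization and kills `I`
    let σ' : Localization.Away e →ₐ[R] R ⧸ I :=
      IsLocalization.liftAlgHom (M := Submonoid.powers e) (f := σ)
        (fun y => by obtain ⟨_, n, rfl⟩ := y; simp [he1])
    have h1 : I.map (algebraMap R (Localization.Away e)) ≤ RingHom.ker σ'.toRingHom := by
      rw [Ideal.map_le_iff_le_comap]
      intro a ha
      change σ' (algebraMap R _ a) = 0
      rw [AlgHom.commutes]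
      exact Ideal.Quotient.eq_zero_iff_mem.2 ha
    have h2 := h1 hr
    change σ' (algebraMap R _ r) = 0 at h2
    rw [AlgHom.commutes] at h2
    exact Ideal.Quotient.eq_zero_iff_mem.1 h2

end Basic

section Colimit

variable {R : Type u} [CommRing R] {I : Ideal R} {B : Type u} [CommRing B] [Algebra R B]

/-- Finitely many elements of the henselization come from an étale neighbourhood. -/
theorem exists_nbhd_finset (h : Hens2.IsPairHenselization R I B) (s : Finset B) :
    ∃ (R' : Type u) (_ : CommRing R') (_ : Algebra R R') (φ : R' →ₐ[R] B), IsNbhd R I R' ∧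
      ∀ x ∈ s, ∃ y, φ y = x := by
  classical
  obtain ⟨ε⟩ := exists_equiv (isPairHenselization_Hens R I) h
  obtain ⟨i, hi⟩ := exists_ofR_finset (s.image ε.symm)
  obtain ⟨e, he1, he⟩ := exists_nbhd_of_point i.σ
  have hu : IsUnit (ofR i e) := by
    apply Hens.isUnit_of_τ
    rw [τ_ofR, he1]; exact isUnit_one
  let φ : Localization.Away e →ₐ[R] Hens R (R ⧸ I) :=
    IsLocalization.liftAlgHom (M := Submonoid.powers e) (f := ofR i)
      (fun y => by obtain ⟨_, n, rfl⟩ := y; rw [map_pow]; exact hu.pow n)
  refine ⟨Localization.Away e, inferInstance, inferInstance, (ε : _ →ₐ[R] B).comp φ, he,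
    fun x hx => ?_⟩
  obtain ⟨y, hy⟩ := hi (ε.symm x) (Finset.mem_image_of_mem _ hx)
  refine ⟨algebraMap _ _ y, ?_⟩
  change ε (φ (algebraMap _ _ y)) = x
  have : φ (algebraMap _ _ y) = ofR i y := IsLocalization.lift_eq _ _
  rw [this, hy, AlgEquiv.apply_symm_apply]

/-- An element of `R` dying in the henselization is killed by an element congruent to `1` modulo `I`. -/
theorem exists_mul_eq_zero (h : Hens2.IsPairHenselization R I B) (x : R)
    (hx : algebraMap R B x = 0) : ∃ a : R, a - 1 ∈ I ∧ a * x = 0 := by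
  have hflat : Module.Flat R B := flat B h
  have h0 : ∑ j : Fin 1, (fun _ => x) j • (fun _ => (1 : B)) j = 0 := by
    simp [Algebra.smul_def, hx]
  obtain ⟨κ, a, w, h1, h2⟩ := (Module.Flat.iff_forall_isTrivialRelation.1 hflat) h0
  choose r hr using fun j => ph_exists_sub_mem h (w j)
  refine ⟨∑ j, a 0 j * r j, ?_, ?_⟩
  · apply ph_mem_of_map_mem h
    have h3 : algebraMap R B (∑ j, a 0 j * r j - 1) =
        - ∑ j, algebraMap R B (a 0 j) * (w j - algebraMap R B (r j)) := by
      have h4 := h1 0
      simp only [Algebra.smul_def] at h4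
      rw [map_sub, map_sum, map_one, h4, ← Finset.sum_neg_distrib, ← Finset.sum_sub_distrib]
      refine Finset.sum_congr rfl fun j _ => ?_
      rw [map_mul]; ring
    rw [h3]
    refine neg_mem (sum_mem fun j _ => Ideal.mul_mem_left _ _ (hr j))
  · rw [Finset.sum_mul]
    refine Finset.sum_eq_zero fun j _ => ?_
    have := h2 j
    simp only [Finset.univ_unique, Fin.default_eq_zero, Fin.isValue, Finset.sum_singleton] at this
    calc a 0 j * r j * x = (x * a 0 j) * r j := by ring
      _ = 0 := by rw [this, zero_mul]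

theorem exists_mul_eq_zero_finset (h : Hens2.IsPairHenselization R I B) (s : Finset R)
    (hs : ∀ x ∈ s, algebraMap R B x = 0) : ∃ a : R, a - 1 ∈ I ∧ ∀ x ∈ s, a * x = 0 := by
  classical
  induction s using Finset.induction_on with
  | empty => exact ⟨1, by simp, by simp⟩
  | insert x s hx ih =>
    obtain ⟨a, ha, ha'⟩ := ih (fun y hy => hs y (Finset.mem_insert_of_mem hy))
    obtain ⟨b, hb, hb'⟩ := exists_mul_eq_zero h x (hs x (Finset.mem_insert_self _ _))
    refine ⟨a * b, ?_, fun y hy => ?_⟩
    · have : a * b - 1 = a * (b - 1) + (a - 1) := by ring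
      rw [this]; exact add_mem (Ideal.mul_mem_left _ _ hb) ha
    · rw [Finset.mem_insert] at hy
      rcases hy with rfl | hy
      · rw [mul_assoc, hb', mul_zero]
      · rw [mul_comm a, mul_assoc, ha' y hy, mul_zero]

/-- Factorization: an `R`-algebra map from a finitely presented `R`-algebra to the henselization
factors through an étale neighbourhood. -/
theorem exists_nbhd_factor (h : Hens2.IsPairHenselization R I B) (P : Type u) [CommRing P]
    [Algebra R P] [Algebra.FinitePresentation R P] (f : P →ₐ[R] B) :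
    ∃ (R' : Type u) (_ : CommRing R') (_ : Algebra R R') (_ : Algebra R' B)
      (_ : IsScalarTower R R' B) (g : P →ₐ[R] R'), IsNbhd R I R' ∧
      ∀ x, algebraMap R' B (g x) = f x := by
  classical
  obtain ⟨n, p, hp, hk⟩ := (Algebra.FinitePresentation.out : ∃ (n : ℕ)
    (f : MvPolynomial (Fin n) R →ₐ[R] P), Function.Surjective f ∧ (RingHom.ker f.toRingHom).FG)
  obtain ⟨R₁, _, _, φ, hR₁, hφ⟩ := exists_nbhd_finset h
    (Finset.univ.image fun i => f (p (MvPolynomial.X i)))
  choose y hy using fun i => hφ _ (Finset.mem_image_of_mem _ (Finset.mem_univ i))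
  let _ : Algebra R₁ B := φ.toRingHom.toAlgebra
  have : IsScalarTower R R₁ B := IsScalarTower.of_algebraMap_eq fun r => (φ.commutes r).symm
  have hB₁ := hR₁.ph_up h
  let ρ : MvPolynomial (Fin n) R →ₐ[R] R₁ := MvPolynomial.aeval y
  have hρ : ∀ q, φ (ρ q) = f (p q) := by
    intro q
    have : φ.comp ρ = f.comp p := by
      apply MvPolynomial.algHom_ext
      intro i
      simp [ρ, hy]
    exact congrArg (fun f : MvPolynomial (Fin n) R →ₐ[R] B => f q) this
  obtain ⟨t, ht⟩ := hk
  obtain ⟨a, ha, ha'⟩ := exists_mul_eq_zero_finset hB₁ (t.image ρ) (by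
    intro x hx
    obtain ⟨q, hq, rfl⟩ := Finset.mem_image.1 hx
    change φ (ρ q) = 0
    rw [hρ]
    have : q ∈ RingHom.ker p.toRingHom := by rw [← ht]; exact Ideal.subset_span hq
    have h1 : p q = 0 := this
    rw [h1, map_zero])
  have hR₂ : IsNbhd R₁ (I.map (algebraMap R R₁)) (Localization.Away a) :=
    isNbhd_away_of_sub_one_mem a ha
  have hau : IsUnit (algebraMap R₁ B a) := by
    apply isUnit_of_mk h.1
    have : Ideal.Quotient.mk (I.map (algebraMap R B)) (algebraMap R₁ B a) = 1 := by
      rw [← map_one (Ideal.Quotient.mk _), Ideal.Quotient.eq, ← map_one (algebraMap R₁ B), ← map_sub]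
      have := Ideal.mem_map_of_mem (algebraMap R₁ B) ha
      rwa [Ideal.map_map, ← IsScalarTower.algebraMap_eq] at this
    rw [this]; exact isUnit_one
  let ψ : Localization.Away a →ₐ[R₁] B :=
    IsLocalization.liftAlgHom (M := Submonoid.powers a) (f := Algebra.ofId R₁ B)
      (fun y => by obtain ⟨_, n, rfl⟩ := y; rw [map_pow]; exact hau.pow n)
  let _ : Algebra (Localization.Away a) B := ψ.toRingHom.toAlgebra
  have : IsScalarTower R₁ (Localization.Away a) B :=
    IsScalarTower.of_algebraMap_eq fun r => (ψ.commutes r).symm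
  have : IsScalarTower R (Localization.Away a) B := by
    refine IsScalarTower.of_algebraMap_eq fun r => ?_
    rw [IsScalarTower.algebraMap_apply R R₁ (Localization.Away a),
      ← IsScalarTower.algebraMap_apply R₁ (Localization.Away a) B, ← IsScalarTower.algebraMap_apply]
  let ρ' : MvPolynomial (Fin n) R →ₐ[R] Localization.Away a :=
    (IsScalarTower.toAlgHom R R₁ (Localization.Away a)).comp ρ
  have hker : RingHom.ker p ≤ RingHom.ker ρ' := by
    have : RingHom.ker p.toRingHom ≤ RingHom.ker ρ'.toRingHom := by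
      rw [← ht, Ideal.span_le]
      intro q hq
      change algebraMap R₁ (Localization.Away a) (ρ q) = 0
      have h1 : a * ρ q = 0 := ha' _ (Finset.mem_image_of_mem _ hq)
      have h2 : IsUnit (algebraMap R₁ (Localization.Away a) a) :=
        IsLocalization.Away.algebraMap_isUnit a
      have h3 := congrArg (algebraMap R₁ (Localization.Away a)) h1
      rw [map_mul, map_zero] at h3
      exact (h2.mul_right_eq_zero).1 h3
    exact this
  let g : P →ₐ[R] Localization.Away a := AlgHom.liftOfSurjective p hp ρ' hker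
  refine ⟨Localization.Away a, inferInstance, inferInstance, inferInstance, inferInstance, g,
    hR₁.trans hR₂, fun x => ?_⟩
  obtain ⟨q, rfl⟩ := hp x
  have h1 : g (p q) = ρ' q := by
    simp [g]
  rw [h1]
  change algebraMap (Localization.Away a) B (algebraMap R₁ (Localization.Away a) (ρ q)) = _
  rw [← IsScalarTower.algebraMap_apply]
  exact hρ q

/-- Finitely presented algebras over the henselization descend to an étale neighbourhood. -/
theorem exists_nbhd_descend (h : Hens2.IsPairHenselization R I B) (S : Type u) [CommRing S]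
    [Algebra B S] [Algebra.FinitePresentation B S] :
    ∃ (R' : Type u) (_ : CommRing R') (_ : Algebra R R') (_ : Algebra R' B)
      (_ : IsScalarTower R R' B) (S' : Type u) (_ : CommRing S') (_ : Algebra R' S'),
      IsNbhd R I R' ∧ Algebra.FinitePresentation R' S' ∧ Nonempty (B ⊗[R'] S' ≃ₐ[B] S) := by
  classical
  obtain ⟨n, m, ⟨P⟩⟩ := Algebra.Presentation.exists_presentation_fin B S
  obtain ⟨R₁, _, _, φ, hR₁, hφ⟩ := exists_nbhd_finset h P.finite_coeffs.toFinset
  let _ : Algebra R₁ B := φ.toRingHom.toAlgebra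
  have : IsScalarTower R R₁ B := IsScalarTower.of_algebraMap_eq fun r => (φ.commutes r).symm
  let _ : Algebra R₁ S := ((algebraMap B S).comp (algebraMap R₁ B)).toAlgebra
  have : IsScalarTower R₁ B S := IsScalarTower.of_algebraMap_eq fun r => rfl
  have : P.HasCoeffs R₁ := ⟨fun x hx => hφ x (by simpa using hx)⟩
  exact ⟨R₁, inferInstance, inferInstance, inferInstance, inferInstance, P.ModelOfHasCoeffs R₁,
    inferInstance, inferInstance, hR₁, inferInstance, ⟨P.tensorModelOfHasCoeffsEquiv R₁⟩⟩

end Colimit

end K145.Nbhd
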