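import Groth.Agent.Hensel.K145.Sheaf
import Mathlib.Algebra.TrivSqZeroExt.Basic
import Mathlib.Algebra.Colimit.TensorProduct

/-!
The sheaf condition for modules over henselizations, via square-zero extensions.
-/

set_option autoImplicit false

universe u

open TensorProduct

namespace K145.Away

open K145.Univ

/-- Transfer from `A` to `S = (A_f)^h`. -/
theorem LPH.up' {A : Type u} [CommRing A] {I : Ideal A} {f g : A} {S : Type u} [CommRing S]
    [Algebra A S] (hS : LEq I f S) {B : Type u} [CommRing B] [Algebra A B] [Algebra S B]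
    [IsScalarTower A S B] (h : LPH I g B) :
    LPH (I.map (algebraMap A S)) (algebraMap A S g) B := by
  refine ⟨?_, ?_, ?_⟩
  · have := h.hens
    rwa [Ideal.map_map, ← IsScalarTower.algebraMap_eq]
  · rw [← IsScalarTower.algebraMap_apply]
    exact h.leq.unit
  · intro D _ J k hD hJ hu
    rw [Ideal.map_map] at hJ
    obtain ⟨l, hl, hlu⟩ := h.leq.ext D J (k.comp (algebraMap A S)) hD hJ hu
    refine ⟨l, ?_, fun l' hl' => ?_⟩
    · refine hS.ringHom_ext J hD ?_ hJ
      rw [RingHom.comp_assoc, ← IsScalarTower.algebraMap_eq]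
      exact hl
    · apply hlu
      show l'.comp (algebraMap A B) = _
      rw [IsScalarTower.algebraMap_eq A S B, ← RingHom.comp_assoc]
      congr 1

/-- Base change of the extension property. -/
theorem LEq.baseChange {S : Type u} [CommRing S] {J : Ideal S} {g : S} {B : Type u} [CommRing B]
    [Algebra S B] (h : LEq J g B) (R : Type u) [CommRing R] [Algebra S R] :
    LEq (J.map (algebraMap S R)) (algebraMap S R g) (R ⊗[S] B) := by
  refine ⟨?_, ?_⟩
  · have h1 := h.unit.map (Algebra.TensorProduct.includeRight : B →ₐ[S] R ⊗[S] B)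
    rw [AlgHom.commutes, IsScalarTower.algebraMap_apply S R (R ⊗[S] B)] at h1
    exact h1
  · intro C _ K f hC hK hu
    rw [Ideal.map_map] at hK
    obtain ⟨k, hk, hku⟩ := h.ext C K (f.comp (algebraMap S R)) hC hK hu
    let _ : Algebra S C := (f.comp (algebraMap S R)).toAlgebra
    let f' : R →ₐ[S] C := { f with commutes' := fun r => rfl }
    let k' : B →ₐ[S] C := { k with commutes' := fun r => congrArg (fun f : S →+* C => f r) hk }
    refine ⟨(Algebra.TensorProduct.lift f' k' (fun _ _ => Commute.all _ _)).toRingHom, ?_, fun m hm => ?_⟩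
    · ext x
      change (Algebra.TensorProduct.lift f' k' (fun _ _ => Commute.all _ _)) (x ⊗ₜ 1) = f x
      rw [Algebra.TensorProduct.lift_tmul, map_one, mul_one]
      rfl
    · have hm1 : ∀ s, m (s ⊗ₜ 1) = f s := fun s => congrArg (fun f : R →+* C => f s) hm
      have hm2 : m.comp (Algebra.TensorProduct.includeRight : B →ₐ[S] R ⊗[S] B).toRingHom = k := by
        apply hku
        ext r
        change m (1 ⊗ₜ algebraMap S B r) = f (algebraMap S R r)
        rw [← hm1, Algebra.algebraMap_eq_smul_one, Algebra.algebraMap_eq_smul_one, TensorProduct.smul_tmul]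
      have hm3 : ∀ s, m (1 ⊗ₜ s) = k s := fun s => congrArg (fun f : B →+* C => f s) hm2
      refine RingHom.ext fun x => ?_
      induction x with
      | zero => simp
      | add x y hx hy => rw [map_add, map_add, hx, hy]
      | tmul x y =>
        change _ = (Algebra.TensorProduct.lift f' k' (fun _ _ => Commute.all _ _)) (x ⊗ₜ y)
        rw [Algebra.TensorProduct.lift_tmul]
        change _ = f x * k y
        rw [← hm1, ← hm3, ← map_mul, Algebra.TensorProduct.tmul_mul_tmul, mul_one, one_mul]

/-- Integral base change. -/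
theorem LPH.baseChange_integral {S : Type u} [CommRing S] {J : Ideal S} {g : S} {B : Type u}
    [CommRing B] [Algebra S B] (h : LPH J g B) (R : Type u) [CommRing R] [Algebra S R]
    [Algebra.IsIntegral S R] :
    LPH (J.map (algebraMap S R)) (algebraMap S R g) (R ⊗[S] B) := by
  refine ⟨?_, h.leq.baseChange R⟩
  have := h.hens
  let _ : Algebra B (R ⊗[S] B) := Algebra.TensorProduct.rightAlgebra
  have : Algebra.IsIntegral B (R ⊗[S] B) := by
    let e : B ⊗[S] R ≃ₐ[B] R ⊗[S] B :=
      { (Algebra.TensorProduct.comm S B R).toRingEquiv with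
        commutes' := fun b => by
          change Algebra.TensorProduct.comm S B R (b ⊗ₜ 1) = _
          rw [Algebra.TensorProduct.comm_tmul]
          rfl }
    exact Algebra.IsIntegral.of_surjective e.toAlgHom e.surjective
  have h1 := Groth.Agent.S0526.result B (J.map (algebraMap S B)) (R ⊗[S] B)
  rw [Ideal.map_map] at h1 ⊢
  have h2 : (algebraMap B (R ⊗[S] B)).comp (algebraMap S B) =
      (algebraMap R (R ⊗[S] B)).comp (algebraMap S R) := by
    ext r
    change (1 : R) ⊗ₜ[S] (algebraMap S B r) = (algebraMap S R r) ⊗ₜ[S] (1 : B)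
    rw [Algebra.algebraMap_eq_smul_one, Algebra.algebraMap_eq_smul_one, TensorProduct.smul_tmul]
  rwa [h2] at h1

end K145.Away

namespace K145.ModGlue

open K145.Univ K145.Away

section TSZ

variable (S : Type u) [CommRing S] (N : Type u) [AddCommGroup N] [Module S N]

/-- the opposite module structure -/
abbrev opMod : Module Sᵐᵒᵖ N := Module.compHom N ((RingHom.id S).fromOpposite mul_comm)

theorem isCentral : letI := opMod S N; IsCentralScalar S N := by
  let _ := opMod S N
  exact ⟨fun r m => rfl⟩

theorem isIntegral_tsz : letI := opMod S N; letI := isCentral S N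
    Algebra.IsIntegral S (TrivSqZeroExt S N) := by
  let _ := opMod S N
  let _ := isCentral S N
  refine ⟨fun x => ?_⟩
  refine ⟨(Polynomial.X - Polynomial.C x.fst) ^ 2,
    (Polynomial.monic_X_sub_C x.fst).pow 2, ?_⟩
  rw [Polynomial.eval₂_pow, Polynomial.eval₂_sub, Polynomial.eval₂_X, Polynomial.eval₂_C]
  have h1 : x - algebraMap S (TrivSqZeroExt S N) x.fst = TrivSqZeroExt.inr x.snd := by
    rw [TrivSqZeroExt.algebraMap_eq_inl]
    conv_lhs => rw [← TrivSqZeroExt.inl_fst_add_inr_snd_eq x]
    simp
  rw [h1, sq, TrivSqZeroExt.inr_mul_inr]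

end TSZ

/-- Injectivity for modules. -/
theorem eq_zero {S : Type u} [CommRing S] (J : Ideal S) [HenselianRing S J] {ι : Type*} (g : ι → S)
    (hcov : J ⊔ Ideal.span (Set.range g) = ⊤) (Hi : ι → Type u) [∀ i, CommRing (Hi i)]
    [∀ i, Algebra S (Hi i)] (h : ∀ i, LPH J (g i) (Hi i)) (N : Type u) [AddCommGroup N] [Module S N]
    (n : N) (hn : ∀ i, n ⊗ₜ[S] (1 : Hi i) = 0) : n = 0 := by
  let _ := opMod S N
  let _ := isCentral S N
  let R := TrivSqZeroExt S N
  have hint : Algebra.IsIntegral S R := isIntegral_tsz S N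
  have hR := Groth.Agent.S0526.result S J R
  have hcov' : J.map (algebraMap S R) ⊔ Ideal.span (Set.range fun i => algebraMap S R (g i)) = ⊤ := by
    have := congrArg (Ideal.map (algebraMap S R)) hcov
    rw [Ideal.map_sup, Ideal.map_span, Ideal.map_top, ← Set.range_comp] at this
    exact this
  have h1 := K145.Sheaf.eq_zero (J.map (algebraMap S R)) (fun i => algebraMap S R (g i)) hcov'
    (fun i => R ⊗[S] Hi i) (fun i => (h i).baseChange_integral R) (TrivSqZeroExt.inr n : R)
    (fun i => by
      change (TrivSqZeroExt.inr n : R) ⊗ₜ[S] (1 : Hi i) = 0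
      have h2 := congrArg (LinearMap.rTensor (Hi i) (TrivSqZeroExt.inrHom S N)) (hn i)
      rw [LinearMap.rTensor_tmul, map_zero] at h2
      exact h2)
  exact TrivSqZeroExt.inr_injective (h1.trans (TrivSqZeroExt.inr_zero S).symm)

/-- Glueing for modules. -/
theorem exists_section {S : Type u} [CommRing S] (J : Ideal S) [HenselianRing S J] {ι : Type u}
    [Finite ι] (g : ι → S) (hcov : J ⊔ Ideal.span (Set.range g) = ⊤)
    (Hi : ι → Type u) [∀ i, CommRing (Hi i)] [∀ i, Algebra S (Hi i)] (h : ∀ i, LPH J (g i) (Hi i))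
    (Hij : ι → ι → Type u) [∀ i j, CommRing (Hij i j)] [∀ i j, Algebra S (Hij i j)]
    (h' : ∀ i j, LPH J (g i * g j) (Hij i j))
    (σ : ∀ i j, Hi i →ₐ[S] Hij i j) (τ : ∀ i j, Hi j →ₐ[S] Hij i j)
    (N : Type u) [AddCommGroup N] [Module S N] (n : ∀ i, N ⊗[S] Hi i)
    (hn : ∀ i j, (σ i j).toLinearMap.lTensor N (n i) = (τ i j).toLinearMap.lTensor N (n j)) :
    ∃ x : N, ∀ i, x ⊗ₜ[S] (1 : Hi i) = n i := by
  let _ := opMod S N
  let _ := isCentral S N
  let R := TrivSqZeroExt S N
  have hint : Algebra.IsIntegral S R := isIntegral_tsz S N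
  have hR := Groth.Agent.S0526.result S J R
  have hcov' : J.map (algebraMap S R) ⊔ Ideal.span (Set.range fun i => algebraMap S R (g i)) = ⊤ := by
    have := congrArg (Ideal.map (algebraMap S R)) hcov
    rw [Ideal.map_sup, Ideal.map_span, Ideal.map_top, ← Set.range_comp] at this
    exact this
  let inr : N →ₗ[S] R := TrivSqZeroExt.inrHom S N
  let snd : R →ₗ[S] N := TrivSqZeroExt.sndHom S N
  have hcomm : ∀ (P Q : Type u) [CommRing P] [CommRing Q] [Algebra S P] [Algebra S Q] (φ : P →ₐ[S] Q)
      (z : N ⊗[S] P), Algebra.TensorProduct.map (AlgHom.id R R) φ (inr.rTensor P z) =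
        inr.rTensor Q (φ.toLinearMap.lTensor N z) := by
    intro P Q _ _ _ _ φ z
    induction z with
    | zero => simp
    | add x y hx hy => simp only [map_add, hx, hy]
    | tmul x y =>
      rw [LinearMap.rTensor_tmul, LinearMap.lTensor_tmul, LinearMap.rTensor_tmul,
        Algebra.TensorProduct.map_tmul]
      rfl
  obtain ⟨x, hx⟩ := K145.Sheaf.exists_section (J.map (algebraMap S R))
    (fun i => algebraMap S R (g i)) hcov'
    (fun i => R ⊗[S] Hi i) (fun i => (h i).baseChange_integral R)
    (fun i j => R ⊗[S] Hij i j) (fun i j => by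
      have := (h' i j).baseChange_integral R
      rwa [map_mul] at this)
    (fun i j => Algebra.TensorProduct.map (AlgHom.id R R) (σ i j))
    (fun i j => Algebra.TensorProduct.map (AlgHom.id R R) (τ i j))
    (fun i => inr.rTensor (Hi i) (n i)) (fun i j => by
      rw [hcomm, hcomm, hn])
  refine ⟨snd x, fun i => ?_⟩
  have h1 : x ⊗ₜ[S] (1 : Hi i) = inr.rTensor (Hi i) (n i) := hx i
  have h2 := congrArg (snd.rTensor (Hi i)) h1
  rw [LinearMap.rTensor_tmul, ← LinearMap.comp_apply, ← LinearMap.rTensor_comp] at h2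
  have h3 : snd.comp inr = LinearMap.id := by
    ext z
    rfl
  rw [h3, LinearMap.rTensor_id] at h2
  exact h2

/-- An element of `R a ⊗ M` dying in the colimit dies at a finite stage. -/
theorem exists_stage {A : Type u} [CommRing A] {κ : Type u} [Preorder κ] [IsDirectedOrder κ]
    [Nonempty κ] (R : κ → Type u) [∀ a, AddCommGroup (R a)] [∀ a, Module A (R a)]
    (t : ∀ a b, a ≤ b → (R a →ₗ[A] R b)) (t_self : ∀ a x, t a a le_rfl x = x)
    (t_trans : ∀ a b c h h' x, t b c h' (t a b h x) = t a c (h.trans h') x)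
    (L : Type u) [AddCommGroup L] [Module A L] (ι : ∀ a, R a →ₗ[A] L)
    (compat : ∀ a b h x, ι b (t a b h x) = ι a x) (surj : ∀ x : L, ∃ a y, ι a y = x)
    (zero : ∀ a y, ι a y = 0 → ∃ b h, t a b h y = 0) (M : Type u) [AddCommGroup M] [Module A M]
    (a : κ) (z : R a ⊗[A] M) (hz : (ι a).rTensor M z = 0) :
    ∃ b h, (t a b h).rTensor M z = 0 := by
  classical
  have hDS : DirectedSystem R (fun a b h => t a b h) :=
    ⟨fun a x => t_self a x, fun a b c hab hbc x => t_trans _ _ _ _ _ x⟩
  let G := Module.DirectLimit R t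
  let lm : G →ₗ[A] L := Module.DirectLimit.lift A κ R t ι (fun a b h x => compat a b h x)
  have hlm : ∀ a x, lm (Module.DirectLimit.of A κ R t a x) = ι a x := fun a x =>
    Module.DirectLimit.lift_of _ _ _
  have hbij : Function.Bijective lm := by
    constructor
    · rw [injective_iff_map_eq_zero]
      intro y hy
      obtain ⟨b, y, rfl⟩ := Module.DirectLimit.exists_of y
      rw [hlm] at hy
      obtain ⟨c, hc, hc'⟩ := zero b y hy
      rw [← Module.DirectLimit.of_f (hij := hc), hc', map_zero]
    · intro x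
      obtain ⟨b, y, hy⟩ := surj x
      exact ⟨Module.DirectLimit.of A κ R t b y, by rw [hlm, hy]⟩
  let e := LinearEquiv.ofBijective lm hbij
  have he : e.symm.toLinearMap.comp (ι a) = Module.DirectLimit.of A κ R t a := by
    ext x
    change e.symm (ι a x) = _
    rw [LinearEquiv.symm_apply_eq]
    exact (hlm a x).symm
  have h1 : (Module.DirectLimit.of A κ R t a).rTensor M z = 0 := by
    rw [← he, LinearMap.rTensor_comp, LinearMap.comp_apply, hz, map_zero]
  let d := TensorProduct.directLimitLeft (R := A) t M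
  have h2 : ∀ z : R a ⊗[A] M, d ((Module.DirectLimit.of A κ R t a).rTensor M z) =
      Module.DirectLimit.of A κ (fun i => R i ⊗[A] M) (fun i j h => (t i j h).rTensor M) a z := by
    intro z
    induction z with
    | zero => simp
    | add x y hx hy => rw [map_add, map_add, hx, hy, map_add]
    | tmul x y => exact TensorProduct.directLimitLeft_tmul_of t M x y
  have h3 := h2 z
  rw [h1, map_zero] at h3
  have hDS' : DirectedSystem (fun i => R i ⊗[A] M) (fun i j h => (t i j h).rTensor M) := by
    constructor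
    · intro i x
      have : t i i le_rfl = LinearMap.id := LinearMap.ext fun x => t_self i x
      change (t i i le_rfl).rTensor M x = x
      rw [this, LinearMap.rTensor_id]; rfl
    · intro k j i hij hjk x
      change (t j k hjk).rTensor M ((t i j hij).rTensor M x) = (t i k (hij.trans hjk)).rTensor M x
      have : (t j k hjk).comp (t i j hij) = t i k (hij.trans hjk) :=
        LinearMap.ext fun x => t_trans _ _ _ _ _ x
      rw [← this, LinearMap.rTensor_comp]; rfl
  obtain ⟨b, hb, hb'⟩ := Module.DirectLimit.of.zero_exact h3.symm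
  exact ⟨b, hb, hb'⟩

end K145.ModGlue
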