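import Groth.Agent.EtpbcA.OpenEquiv
import Groth.Agent.S0526
import Groth.Agent.S0530
import Mathlib.RingTheory.Etale.Pi
import Mathlib.RingTheory.Flat.FaithfullyFlat.Algebra
import Mathlib.RingTheory.Flat.EquationalCriterion
import Mathlib.RingTheory.Spectrum.Prime.Chevalley

/-!
Glueing functions on étale covers over a henselian pair.

`glue`: for a henselian pair `(A, I)`, an étale `A`-algebra `C` whose spectrum covers `V(I)` and `s : C` whose
two pullbacks to `C ⊗ C` agree near all points over `V(I)`, there is `x : A` with `s = x` near all points of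
`Spec C` over `V(I)`.
-/

set_option autoImplicit false

universe u

open TensorProduct

namespace K145.Van

open Groth.Agent.EtpbcA.OpenEquivAlg Groth.Agent.EtpbcA.OpenEquiv

/-- `x` vanishes near the point `P`. -/
def VanAt {R : Type*} [CommRing R] (x : R) (P : Ideal R) : Prop := ∃ a : R, a ∉ P ∧ a * x = 0

section Basic

variable {R : Type*} [CommRing R]

theorem vanAt_mono {x : R} {P Q : Ideal R} (h : P ≤ Q) (hx : VanAt x Q) : VanAt x P := by
  obtain ⟨a, ha, h1⟩ := hx
  exact ⟨a, fun h2 => ha (h h2), h1⟩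

theorem vanAt_zero {P : Ideal R} (hP : P ≠ ⊤) : VanAt (0 : R) P :=
  ⟨1, (Ideal.ne_top_iff_one P).1 hP, mul_zero _⟩

theorem eq_zero_of_vanAt (x : R) (h : ∀ M : Ideal R, M.IsMaximal → VanAt x M) : x = 0 := by
  have h1 : (Submodule.span R {x}).annihilator = ⊤ := by
    by_contra hne
    obtain ⟨M, hM, hle⟩ := Ideal.exists_le_maximal _ hne
    obtain ⟨a, ha, hax⟩ := h M hM
    exact ha (hle ((Submodule.mem_annihilator_span_singleton x a).2 hax))
  have h2 : (1 : R) ∈ (Submodule.span R {x}).annihilator := by rw [h1]; trivial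
  rw [Submodule.mem_annihilator_span_singleton, one_smul] at h2
  exact h2

theorem isOpen_vanAt (x : R) : IsOpen {P : PrimeSpectrum R | VanAt x P.asIdeal} := by
  have : {P : PrimeSpectrum R | VanAt x P.asIdeal} =
      (PrimeSpectrum.zeroLocus ((Submodule.span R {x}).annihilator : Set R))ᶜ := by
    ext P
    simp only [Set.mem_ofPred_eq, Set.mem_compl_iff, PrimeSpectrum.mem_zeroLocus, Set.not_subset]
    constructor
    · rintro ⟨a, ha, hax⟩
      exact ⟨a, (Submodule.mem_annihilator_span_singleton x a).2 hax, ha⟩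
    · rintro ⟨a, ha, hax⟩
      exact ⟨a, hax, (Submodule.mem_annihilator_span_singleton x a).1 ha⟩
  rw [this]
  exact (PrimeSpectrum.isClosed_zeroLocus _).isOpen_compl

theorem vanAt_map {S : Type*} [CommRing S] (f : R →+* S) {x : R} {Q : Ideal S}
    (h : VanAt x (Q.comap f)) : VanAt (f x) Q := by
  obtain ⟨a, ha, hax⟩ := h
  exact ⟨f a, ha, by rw [← map_mul, hax, map_zero]⟩

theorem vanAt_of_flat {S : Type*} [CommRing S] [Algebra R S] [Module.Flat R S] {x : R}
    {Q : Ideal S} (h : VanAt (algebraMap R S x) Q) : VanAt x (Q.comap (algebraMap R S)) := by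
  obtain ⟨b, hb, hbx⟩ := h
  have h0 : ∑ j : Fin 1, (fun _ => x) j • (fun _ => b) j = 0 := by
    simp [Algebra.smul_def, mul_comm, hbx]
  obtain ⟨κ, a, w, h1, h2⟩ := (Module.Flat.iff_forall_isTrivialRelation.1 ‹Module.Flat R S›) h0
  by_contra hcon
  have hall : ∀ j, a 0 j ∈ Q.comap (algebraMap R S) := by
    intro j
    by_contra hj
    refine hcon ⟨a 0 j, hj, ?_⟩
    have := h2 j
    simp only [Finset.univ_unique, Fin.default_eq_zero, Fin.isValue, Finset.sum_singleton] at this
    rw [mul_comm]; exact this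
  apply hb
  have h3 := h1 0
  simp only at h3
  rw [h3]
  refine sum_mem fun j _ => ?_
  rw [Algebra.smul_def]
  exact Ideal.mul_mem_right _ _ (hall j)

theorem vanAt_neg {x : R} {P : Ideal R} (h : VanAt x P) : VanAt (-x) P := by
  obtain ⟨a, ha, hax⟩ := h
  exact ⟨a, ha, by rw [mul_neg, hax, neg_zero]⟩

end Basic

section Rel

variable {A : Type u} [CommRing A] {C : Type u} [CommRing C] [Algebra A C]

/-- The locus where the two pullbacks of `s` agree is an equivalence relation. -/
theorem isEquivRel [Module.Flat A C] (s : C) : IsEquivRel (A := A)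
    {e : PrimeSpectrum (C ⊗[A] C) | VanAt (s ⊗ₜ[A] (1 : C) - (1 : C) ⊗ₜ[A] s) e.asIdeal} where
  symm := by
    rintro K _ _ _ φ ψ ⟨a, ha, h⟩
    rw [mem_pt] at ha
    refine ⟨Algebra.TensorProduct.comm A C C a, ?_, ?_⟩
    · rw [mem_pt]
      have h1 : (Algebra.TensorProduct.productMap ψ φ).comp
          (Algebra.TensorProduct.comm A C C : C ⊗[A] C →ₐ[A] C ⊗[A] C) =
          Algebra.TensorProduct.productMap φ ψ := by
        refine Algebra.TensorProduct.ext' fun c d => ?_
        change Algebra.TensorProduct.productMap ψ φ (Algebra.TensorProduct.comm A C C (c ⊗ₜ d)) = _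
        rw [Algebra.TensorProduct.comm_tmul, Algebra.TensorProduct.productMap_apply_tmul,
          Algebra.TensorProduct.productMap_apply_tmul, mul_comm]
      intro h2
      apply ha
      rw [← h1]
      exact h2
    · have h1 := congrArg (Algebra.TensorProduct.comm A C C) h
      rw [map_mul, map_sub, Algebra.TensorProduct.comm_tmul, Algebra.TensorProduct.comm_tmul,
        map_zero] at h1
      rw [← neg_sub, mul_neg, h1, neg_zero]
  trans := by
    rintro K _ _ _ φ ψ χ ⟨a, ha, h⟩ ⟨b, hb, h'⟩
    rw [mem_pt] at ha hb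
    let L : C →ₐ[A] (C ⊗[A] C) ⊗[A] C :=
      Algebra.TensorProduct.includeLeft.comp Algebra.TensorProduct.includeLeft
    let M : C →ₐ[A] (C ⊗[A] C) ⊗[A] C :=
      Algebra.TensorProduct.includeLeft.comp Algebra.TensorProduct.includeRight
    let N : C →ₐ[A] (C ⊗[A] C) ⊗[A] C := Algebra.TensorProduct.includeRight
    let p12 := Algebra.TensorProduct.productMap L N
    let p23 := Algebra.TensorProduct.productMap N M
    let θ : (C ⊗[A] C) ⊗[A] C →ₐ[A] K :=
      Algebra.TensorProduct.productMap (Algebra.TensorProduct.productMap φ χ) ψ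
    have hθL : ∀ c, θ (L c) = φ c := fun c => by
      change Algebra.TensorProduct.productMap (Algebra.TensorProduct.productMap φ χ) ψ
        ((c ⊗ₜ 1) ⊗ₜ 1) = _
      rw [Algebra.TensorProduct.productMap_apply_tmul, Algebra.TensorProduct.productMap_apply_tmul,
        map_one, map_one, mul_one, mul_one]
    have hθM : ∀ c, θ (M c) = χ c := fun c => by
      change Algebra.TensorProduct.productMap (Algebra.TensorProduct.productMap φ χ) ψ
        ((1 ⊗ₜ c) ⊗ₜ 1) = _
      rw [Algebra.TensorProduct.productMap_apply_tmul, Algebra.TensorProduct.productMap_apply_tmul,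
        map_one, map_one, one_mul, mul_one]
    have hθN : ∀ c, θ (N c) = ψ c := fun c => by
      change Algebra.TensorProduct.productMap (Algebra.TensorProduct.productMap φ χ) ψ
        (1 ⊗ₜ c) = _
      rw [Algebra.TensorProduct.productMap_apply_tmul, map_one, one_mul]
    have hp12 : ∀ z, θ (p12 z) = Algebra.TensorProduct.productMap φ ψ z := by
      intro z
      have : θ.comp p12 = Algebra.TensorProduct.productMap φ ψ := by
        refine Algebra.TensorProduct.ext' fun c d => ?_
        change θ (Algebra.TensorProduct.productMap L N (c ⊗ₜ d)) = _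
        rw [Algebra.TensorProduct.productMap_apply_tmul, map_mul, hθL, hθN,
          Algebra.TensorProduct.productMap_apply_tmul]
      exact congrArg (fun f : C ⊗[A] C →ₐ[A] K => f z) this
    have hp23 : ∀ z, θ (p23 z) = Algebra.TensorProduct.productMap ψ χ z := by
      intro z
      have : θ.comp p23 = Algebra.TensorProduct.productMap ψ χ := by
        refine Algebra.TensorProduct.ext' fun c d => ?_
        change θ (Algebra.TensorProduct.productMap N M (c ⊗ₜ d)) = _
        rw [Algebra.TensorProduct.productMap_apply_tmul, map_mul, hθM, hθN,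
          Algebra.TensorProduct.productMap_apply_tmul]
      exact congrArg (fun f : C ⊗[A] C →ₐ[A] K => f z) this
    have hδ : algebraMap (C ⊗[A] C) ((C ⊗[A] C) ⊗[A] C) (s ⊗ₜ[A] (1 : C) - (1 : C) ⊗ₜ[A] s) =
        p12 (s ⊗ₜ[A] (1 : C) - (1 : C) ⊗ₜ[A] s) + p23 (s ⊗ₜ[A] (1 : C) - (1 : C) ⊗ₜ[A] s) := by
      have e1 : algebraMap (C ⊗[A] C) ((C ⊗[A] C) ⊗[A] C) (s ⊗ₜ[A] (1 : C) - (1 : C) ⊗ₜ[A] s) =
          L s - M s := by rw [map_sub]; rfl
      have e2 : p12 (s ⊗ₜ[A] (1 : C) - (1 : C) ⊗ₜ[A] s) = L s - N s := by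
        rw [map_sub]
        simp only [p12, Algebra.TensorProduct.productMap_apply_tmul, map_one, mul_one, one_mul]
      have e3 : p23 (s ⊗ₜ[A] (1 : C) - (1 : C) ⊗ₜ[A] s) = N s - M s := by
        rw [map_sub]
        simp only [p23, Algebra.TensorProduct.productMap_apply_tmul, map_one, mul_one, one_mul]
      rw [e1, e2, e3]; ring
    have hv : VanAt (algebraMap (C ⊗[A] C) ((C ⊗[A] C) ⊗[A] C)
        (s ⊗ₜ[A] (1 : C) - (1 : C) ⊗ₜ[A] s)) (RingHom.ker θ) := by
      refine ⟨p12 a * p23 b, ?_, ?_⟩
      · rw [RingHom.mem_ker, map_mul, hp12, hp23]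
        exact mul_ne_zero ha hb
      · rw [hδ, mul_add]
        have h1 := congrArg p12 h
        have h2 := congrArg p23 h'
        rw [map_mul, map_zero] at h1 h2
        linear_combination p23 b * h1 + p12 a * h2
    have hflat : Module.Flat (C ⊗[A] C) ((C ⊗[A] C) ⊗[A] C) := inferInstance
    have h3 := vanAt_of_flat hv
    have h4 : (RingHom.ker θ).comap (algebraMap (C ⊗[A] C) ((C ⊗[A] C) ⊗[A] C)) =
        (pt φ χ).asIdeal := by
      ext z
      rw [mem_pt]
      change Algebra.TensorProduct.productMap (Algebra.TensorProduct.productMap φ χ) ψ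
        (z ⊗ₜ 1) = 0 ↔ _
      rw [Algebra.TensorProduct.productMap_apply_tmul, map_one, mul_one]
    rw [h4] at h3
    exact h3

end Rel

end K145.Van
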