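import Groth.Agent.Hensel.K145.Nbhd
import Groth.Agent.Hensel.K145.Van

/-!
Henselizations of localized pairs `(A_g, I A_g)`, described intrinsically as `A`-algebras.
-/

set_option autoImplicit false

universe u

open TensorProduct

namespace K145.Away

open K145.Univ K145.Nbhd K145.Van

/-- `A → B` inverts `g` and has the unique extension property for maps of pairs from `(A, I)` to henselian
pairs which invert `g`. -/
structure LEq {A : Type u} [CommRing A] (I : Ideal A) (g : A) (B : Type u) [CommRing B]
    [Algebra A B] : Prop where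
  unit : IsUnit (algebraMap A B g)
  ext : ∀ (D : Type u) [CommRing D] (J : Ideal D) (f : A →+* D), HenselianRing D J → I.map f ≤ J →
    IsUnit (f g) → ∃! k : B →+* D, k.comp (algebraMap A B) = f

/-- `B` is (as an `A`-algebra) a henselization of `(A_g, I A_g)`. -/
structure LPH {A : Type u} [CommRing A] (I : Ideal A) (g : A) (B : Type u) [CommRing B]
    [Algebra A B] : Prop where
  hens : HenselianRing B (I.map (algebraMap A B))
  leq : LEq I g B

section Basic

variable {A : Type u} [CommRing A] {I : Ideal A} {g : A} {B : Type u} [CommRing B] [Algebra A B]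

theorem LEq.of_hequiv {Ag : Type u} [CommRing Ag] [Algebra A Ag] [IsLocalization.Away g Ag]
    [Algebra Ag B] [IsScalarTower A Ag B]
    (h : HEquiv Ag (I.map (algebraMap A Ag)) B) : LEq I g B := by
  refine ⟨?_, ?_⟩
  · rw [IsScalarTower.algebraMap_apply A Ag B]
    exact (IsLocalization.Away.algebraMap_isUnit g).map _
  · intro D _ J f hD hJ hu
    obtain ⟨k, hk, hku⟩ := h D J (IsLocalization.Away.lift g hu) hD (by
      rw [Ideal.map_map, IsLocalization.Away.lift_comp]; exact hJ)
    refine ⟨k, ?_, fun k' hk' => ?_⟩
    · show k.comp (algebraMap A B) = f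
      rw [IsScalarTower.algebraMap_eq A Ag B, ← RingHom.comp_assoc, hk, IsLocalization.Away.lift_comp]
    · apply hku
      apply IsLocalization.ringHom_ext (Submonoid.powers g)
      rw [IsLocalization.Away.lift_comp, RingHom.comp_assoc, ← IsScalarTower.algebraMap_eq]
      exact hk'

theorem LEq.hequiv {Ag : Type u} [CommRing Ag] [Algebra A Ag] [IsLocalization.Away g Ag]
    [Algebra Ag B] [IsScalarTower A Ag B] (h : LEq I g B) :
    HEquiv Ag (I.map (algebraMap A Ag)) B := by
  intro D _ J f hD hJ
  rw [Ideal.map_map] at hJ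
  obtain ⟨k, hk, hku⟩ := h.ext D J (f.comp (algebraMap A Ag)) hD hJ
    ((IsLocalization.Away.algebraMap_isUnit g).map f)
  refine ⟨k, ?_, fun k' hk' => ?_⟩
  · apply IsLocalization.ringHom_ext (Submonoid.powers g)
    rw [RingHom.comp_assoc, ← IsScalarTower.algebraMap_eq]
    exact hk
  · apply hku
    show k'.comp (algebraMap A B) = _
    rw [IsScalarTower.algebraMap_eq A Ag B, ← RingHom.comp_assoc]
    congr 1

theorem LPH.of_ph {Ag : Type u} [CommRing Ag] [Algebra A Ag] [IsLocalization.Away g Ag]
    [Algebra Ag B] [IsScalarTower A Ag B]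
    (h : Hens2.IsPairHenselization Ag (I.map (algebraMap A Ag)) B) : LPH I g B := by
  refine ⟨?_, LEq.of_hequiv h.2⟩
  have := h.1
  rwa [Ideal.map_map, ← IsScalarTower.algebraMap_eq] at this

theorem LPH.ph {Ag : Type u} [CommRing Ag] [Algebra A Ag] [IsLocalization.Away g Ag]
    [Algebra Ag B] [IsScalarTower A Ag B] (h : LPH I g B) :
    Hens2.IsPairHenselization Ag (I.map (algebraMap A Ag)) B := by
  refine ⟨?_, h.leq.hequiv⟩
  have := h.hens
  rwa [Ideal.map_map, ← IsScalarTower.algebraMap_eq]

/-- The structure of algebra over the localization. -/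
theorem LEq.exists_algebra (h : LEq I g B) :
    ∃ (_ : Algebra (Localization.Away g) B), IsScalarTower A (Localization.Away g) B := by
  let _ : Algebra (Localization.Away g) B :=
    (IsLocalization.Away.lift g h.unit : Localization.Away g →+* B).toAlgebra
  exact ⟨inferInstance,
    IsScalarTower.of_algebraMap_eq' (IsLocalization.Away.lift_comp g h.unit).symm⟩

/-- Finitely many elements come from an étale algebra. -/
theorem LPH.exists_etale (h : LPH I g B) (s : B) :
    ∃ (C : Type u) (_ : CommRing C) (_ : Algebra A C) (φ : C →ₐ[A] B) (s' : C),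
      Algebra.Etale A C ∧ LEq I g C ∧ φ s' = s := by
  obtain ⟨_, _⟩ := h.leq.exists_algebra
  have hB : Hens2.IsPairHenselization (Localization.Away g)
    (I.map (algebraMap A (Localization.Away g))) B := h.ph
  obtain ⟨C, _, _, φ, hC, hs⟩ := exists_nbhd_finset hB {s}
  obtain ⟨s', hs'⟩ := hs s (Finset.mem_singleton_self s)
  have := hC.etale
  let _ : Algebra A C := ((algebraMap (Localization.Away g) C).comp
    (algebraMap A (Localization.Away g))).toAlgebra
  have : IsScalarTower A (Localization.Away g) C := IsScalarTower.of_algebraMap_eq fun r => rfl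
  have : Algebra.Etale A (Localization.Away g) := Algebra.Etale.of_isLocalizationAway g
  exact ⟨C, inferInstance, inferInstance, φ.restrictScalars A, s',
    Algebra.Etale.comp A (Localization.Away g) C, LEq.of_hequiv hC.hequiv, hs'⟩

theorem LPH.flat (h : LPH I g B) : Module.Flat A B := by
  obtain ⟨_, _⟩ := h.leq.exists_algebra
  have hB : Hens2.IsPairHenselization (Localization.Away g)
    (I.map (algebraMap A (Localization.Away g))) B := h.ph
  have h1 : Module.Flat (Localization.Away g) B := Groth.Agent.Etalg.PairHens2.flat B hB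
  have h2 : Module.Flat A (Localization.Away g) := IsLocalization.flat _ (Submonoid.powers g)
  exact Module.Flat.trans A (Localization.Away g) B

/-- A prime over a prime containing `I` and not `g`. -/
theorem LEq.exists_prime (h : LEq I g B) (p : PrimeSpectrum A) (hp : I ≤ p.asIdeal)
    (hg : g ∉ p.asIdeal) : ∃ P : PrimeSpectrum B, PrimeSpectrum.comap (algebraMap A B) P = p := by
  have hK : HenselianRing p.asIdeal.ResidueField (⊥ : Ideal p.asIdeal.ResidueField) := inferInstance
  obtain ⟨k, hk, -⟩ := h.ext p.asIdeal.ResidueField ⊥ (algebraMap A p.asIdeal.ResidueField) hK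
    (by
      rw [Ideal.map_le_iff_le_comap]
      intro a ha
      rw [Ideal.mem_comap, Ideal.mem_bot, Ideal.algebraMap_residueField_eq_zero]
      exact hp ha)
    (by
      rw [isUnit_iff_ne_zero, ne_eq, Ideal.algebraMap_residueField_eq_zero]
      exact hg)
  refine ⟨⟨RingHom.ker k, RingHom.ker_isPrime k⟩, ?_⟩
  apply PrimeSpectrum.ext
  ext a
  change k (algebraMap A B a) = 0 ↔ _
  have : k (algebraMap A B a) = algebraMap A p.asIdeal.ResidueField a :=
    congrArg (fun f : A →+* _ => f a) hk
  rw [this, Ideal.algebraMap_residueField_eq_zero]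

/-- Tensor products. -/
theorem LEq.tensor (h : LEq I g B) {g' : A} {B' : Type u} [CommRing B'] [Algebra A B']
    (h' : LEq I g' B') : LEq I (g * g') (B ⊗[A] B') := by
  refine ⟨?_, ?_⟩
  · rw [map_mul]
    refine IsUnit.mul ?_ ?_
    · have := h.unit.map (Algebra.TensorProduct.includeLeft : B →ₐ[A] B ⊗[A] B')
      rwa [AlgHom.commutes] at this
    · have := h'.unit.map (Algebra.TensorProduct.includeRight : B' →ₐ[A] B ⊗[A] B')
      rwa [AlgHom.commutes] at this
  · intro D _ J f hD hJ hu
    rw [map_mul] at hu
    obtain ⟨k, hk, hku⟩ := h.ext D J f hD hJ (isUnit_of_mul_isUnit_left hu)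
    obtain ⟨k', hk', hku'⟩ := h'.ext D J f hD hJ (isUnit_of_mul_isUnit_right hu)
    let _ : Algebra A D := f.toAlgebra
    let κ : B →ₐ[A] D := { k with commutes' := fun r => congrArg (fun f : A →+* D => f r) hk }
    let κ' : B' →ₐ[A] D := { k' with commutes' := fun r => congrArg (fun f : A →+* D => f r) hk' }
    refine ⟨(Algebra.TensorProduct.productMap κ κ').toRingHom, ?_, fun m hm => ?_⟩
    · exact (Algebra.TensorProduct.productMap κ κ').comp_algebraMap
    · let μ : B ⊗[A] B' →ₐ[A] D :=
        { m with commutes' := fun r => congrArg (fun f : A →+* D => f r) hm }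
      have hL : μ.comp Algebra.TensorProduct.includeLeft = κ := by
        have := hku (μ.comp (Algebra.TensorProduct.includeLeft : B →ₐ[A] B ⊗[A] B')).toRingHom
          (μ.comp Algebra.TensorProduct.includeLeft).comp_algebraMap
        exact AlgHom.ext fun x => congrArg (fun f : B →+* D => f x) this
      have hR : μ.comp Algebra.TensorProduct.includeRight = κ' := by
        have := hku' (μ.comp (Algebra.TensorProduct.includeRight : B' →ₐ[A] B ⊗[A] B')).toRingHom
          (μ.comp Algebra.TensorProduct.includeRight).comp_algebraMap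
        exact AlgHom.ext fun x => congrArg (fun f : B' →+* D => f x) this
      have : μ = Algebra.TensorProduct.productMap κ κ' := by
        refine Algebra.TensorProduct.ext' fun x y => ?_
        rw [Algebra.TensorProduct.productMap_apply_tmul, ← hL, ← hR]
        change μ (x ⊗ₜ y) = μ (x ⊗ₜ 1) * μ (1 ⊗ₜ y)
        rw [← map_mul, Algebra.TensorProduct.tmul_mul_tmul, mul_one, one_mul]
      exact congrArg AlgHom.toRingHom this

/-- Uniqueness for ring homs to henselian pairs. -/
theorem LEq.ringHom_ext (h : LEq I g B) {D : Type u} [CommRing D] (J : Ideal D)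
    (hD : HenselianRing D J) {k₁ k₂ : B →+* D}
    (hk : k₁.comp (algebraMap A B) = k₂.comp (algebraMap A B))
    (hJ : I.map (k₂.comp (algebraMap A B)) ≤ J) : k₁ = k₂ :=
  (h.ext D J (k₂.comp (algebraMap A B)) hD hJ (h.unit.map k₂)).unique hk rfl

/-- If `B` is intrinsic over `(A, I, g)` and `B → B'` with `B'` also intrinsic (henselian), then `B'` is a
henselization of `(B, I B)`. -/
theorem LEq.ph_up (h : LEq I g B) {B' : Type u} [CommRing B'] [Algebra A B'] [Algebra B B']
    [IsScalarTower A B B'] (h' : LPH I g B') :
    Hens2.IsPairHenselization B (I.map (algebraMap A B)) B' := by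
  refine ⟨?_, ?_⟩
  · have := h'.hens
    rwa [Ideal.map_map, ← IsScalarTower.algebraMap_eq]
  · intro D _ J f hD hJ
    rw [Ideal.map_map] at hJ
    obtain ⟨k, hk, hku⟩ := h'.leq.ext D J (f.comp (algebraMap A B)) hD hJ (h.unit.map f)
    refine ⟨k, ?_, fun k' hk' => ?_⟩
    · refine h.ringHom_ext J hD ?_ hJ
      rw [RingHom.comp_assoc, ← IsScalarTower.algebraMap_eq]
      exact hk
    · apply hku
      show k'.comp (algebraMap A B') = _
      rw [IsScalarTower.algebraMap_eq A B B', ← RingHom.comp_assoc]
      congr 1

/-- Transfer from `A` to an `A`-algebra `H` with the same henselization. -/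
theorem LPH.up {H : Type u} [CommRing H] [Algebra A H] (hH : HEquiv A I H) [Algebra H B]
    [IsScalarTower A H B] (h : LPH I g B) :
    LPH (I.map (algebraMap A H)) (algebraMap A H g) B := by
  refine ⟨?_, ?_, ?_⟩
  · have := h.hens
    rwa [Ideal.map_map, ← IsScalarTower.algebraMap_eq]
  · rw [← IsScalarTower.algebraMap_apply]
    exact h.leq.unit
  · intro D _ J f hD hJ hu
    rw [Ideal.map_map] at hJ
    obtain ⟨k, hk, hku⟩ := h.leq.ext D J (f.comp (algebraMap A H)) hD hJ hu
    refine ⟨k, ?_, fun k' hk' => ?_⟩
    · refine hH.ringHom_ext J hD ?_ hJ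
      rw [RingHom.comp_assoc, ← IsScalarTower.algebraMap_eq]
      exact hk
    · apply hku
      show k'.comp (algebraMap A B) = _
      rw [IsScalarTower.algebraMap_eq A H B, ← RingHom.comp_assoc]
      congr 1

end Basic

end K145.Away
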