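import Groth.Agent.Hensel.K145.Univ
import Mathlib.Algebra.Colimit.DirectLimit
import Mathlib.Algebra.Polynomial.Lifts
import Mathlib.RingTheory.FinitePresentation

/-!
Directed colimits of algebras (abstract form), henselian pairs, and maps from finitely presented algebras.
-/

set_option autoImplicit false

universe u

open Polynomial

namespace K145.Colim

open Groth.Agent.Etalg.PtEtSystem

/-- `L`, with the maps `ι a`, is a directed colimit of the rings `Ra a`. -/
structure IsColim {κ : Type u} [Preorder κ] (Ra : κ → Type u) [∀ a, CommRing (Ra a)]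
    (t : ∀ a b : κ, a ≤ b → (Ra a →+* Ra b)) (L : Type u) [CommRing L]
    (ι : ∀ a, Ra a →+* L) : Prop where
  trans : ∀ (a b c : κ) (h : a ≤ b) (h' : b ≤ c) (x : Ra a),
    t b c h' (t a b h x) = t a c (h.trans h') x
  compat : ∀ (a b : κ) (h : a ≤ b) (x : Ra a), ι b (t a b h x) = ι a x
  surj : ∀ x : L, ∃ (a : κ) (y : Ra a), ι a y = x
  zero : ∀ (a : κ) (y : Ra a), ι a y = 0 → ∃ (b : κ) (h : a ≤ b), t a b h y = 0

theorem isColim_directLimit {κ : Type u} [Preorder κ] [IsDirectedOrder κ] [Nonempty κ]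
    (Ra : κ → Type u) [∀ a, CommRing (Ra a)] (t : ∀ a b : κ, a ≤ b → (Ra a →+* Ra b))
    [DirectedSystem Ra (fun a b h => t a b h)] :
    IsColim Ra t (DirectLimit Ra t) (fun a => DirectLimit.Ring.of Ra t a) where
  trans a b c h h' x := DirectedSystem.map_map (f := fun a b h => t a b h) h h' x
  compat a b h x := (DirectLimit.eq_of_le (f := fun a b h => t a b h) ⟨a, x⟩ b h).symm
  surj x := by
    obtain ⟨i, y, h⟩ := DirectLimit.exists_eq_mk _ x
    exact ⟨i, y, h.symm⟩
  zero a y h := by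
    rw [← map_zero (DirectLimit.Ring.of Ra t a)] at h
    obtain ⟨k, hi, hj, h⟩ := Quotient.exact h
    refine ⟨k, hi, ?_⟩
    have h1 : t a k hi y = t a k hj 0 := h
    rw [h1, map_zero]

section

variable {κ : Type u} [Preorder κ] [IsDirectedOrder κ] [Nonempty κ]
  {Ra : κ → Type u} [∀ a, CommRing (Ra a)] {t : ∀ a b : κ, a ≤ b → (Ra a →+* Ra b)}
  {L : Type u} [CommRing L] {ι : ∀ a, Ra a →+* L}

omit [IsDirectedOrder κ] [Nonempty κ] in
theorem IsColim.eq (h : IsColim Ra t L ι) {a : κ} {x y : Ra a} (hxy : ι a x = ι a y) :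
    ∃ (b : κ) (h : a ≤ b), t a b h x = t a b h y := by
  obtain ⟨b, hb, hb'⟩ := h.zero a (x - y) (by rw [map_sub, hxy, sub_self])
  exact ⟨b, hb, by rw [← sub_eq_zero, ← map_sub, hb']⟩

omit [Nonempty κ] in
/-- equality in the colimit of elements at different stages -/
theorem IsColim.eq' (h : IsColim Ra t L ι) {a b : κ} {x : Ra a} {y : Ra b} (hxy : ι a x = ι b y) :
    ∃ (c : κ) (ha : a ≤ c) (hb : b ≤ c), t a c ha x = t b c hb y := by
  obtain ⟨c, ha, hb⟩ := exists_ge_ge a b
  obtain ⟨d, hd, hd'⟩ := h.eq (a := c) (x := t a c ha x) (y := t b c hb y) (by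
    rw [h.compat, h.compat, hxy])
  rw [h.trans, h.trans] at hd'
  exact ⟨d, ha.trans hd, hb.trans hd, hd'⟩

/-- Finitely many elements of the colimit come from one stage. -/
theorem IsColim.exists_finset (h : IsColim Ra t L ι) (s : Finset L) :
    ∃ a : κ, ∀ x ∈ s, ∃ y : Ra a, ι a y = x := by
  classical
  induction s using Finset.induction_on with
  | empty =>
    obtain ⟨a⟩ := ‹Nonempty κ›
    exact ⟨a, by simp⟩
  | insert x s hx ih =>
    obtain ⟨a, ha⟩ := ih
    obtain ⟨b, y, hy⟩ := h.surj x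
    obtain ⟨c, hac, hbc⟩ := exists_ge_ge a b
    refine ⟨c, fun z hz => ?_⟩
    rw [Finset.mem_insert] at hz
    rcases hz with rfl | hz
    · exact ⟨t b c hbc y, by rw [h.compat, hy]⟩
    · obtain ⟨w, hw⟩ := ha z hz
      exact ⟨t a c hac w, by rw [h.compat, hw]⟩

theorem IsColim.exists_finset_ge (h : IsColim Ra t L ι) (s : Finset L) (a₀ : κ) :
    ∃ a : κ, a₀ ≤ a ∧ ∀ x ∈ s, ∃ y : Ra a, ι a y = x := by
  obtain ⟨a, ha⟩ := h.exists_finset s
  obtain ⟨c, h0, hac⟩ := exists_ge_ge a₀ a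
  refine ⟨c, h0, fun x hx => ?_⟩
  obtain ⟨y, hy⟩ := ha x hx
  exact ⟨t a c hac y, by rw [h.compat, hy]⟩

omit [Nonempty κ] in
/-- Finitely many equalities at one stage. -/
theorem IsColim.eq_finset (h : IsColim Ra t L ι) {a : κ} {σ : Type*} (s : Finset σ) (x y : σ → Ra a)
    (hxy : ∀ i ∈ s, ι a (x i) = ι a (y i)) :
    ∃ (b : κ) (hb : a ≤ b), ∀ i ∈ s, t a b hb (x i) = t a b hb (y i) := by
  classical
  induction s using Finset.induction_on with
  | empty => exact ⟨a, le_rfl, by simp⟩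
  | insert j s hj ih =>
    obtain ⟨b, hb, hb'⟩ := ih (fun i hi => hxy i (Finset.mem_insert_of_mem hi))
    obtain ⟨c, hc, hc'⟩ := h.eq (hxy j (Finset.mem_insert_self _ _))
    obtain ⟨d, hbd, hcd⟩ := exists_ge_ge b c
    refine ⟨d, hb.trans hbd, fun i hi => ?_⟩
    rw [Finset.mem_insert] at hi
    rcases hi with rfl | hi
    · have := congrArg (t c d hcd) hc'
      rwa [h.trans, h.trans] at this
    · have := congrArg (t b d hbd) (hb' i hi)
      rwa [h.trans, h.trans] at this

end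

section Alg

variable {A : Type u} [CommRing A] (I : Ideal A) {κ : Type u} [Preorder κ] [IsDirectedOrder κ]
  [Nonempty κ] {Ra : κ → Type u} [∀ a, CommRing (Ra a)] [∀ a, Algebra A (Ra a)]
  {t : ∀ a b : κ, a ≤ b → (Ra a →+* Ra b)}
  {L : Type u} [CommRing L] [Algebra A L] {ι : ∀ a, Ra a →+* L}

/-- Elements of `I L` come from elements of `I Ra`. -/
theorem IsColim.exists_mem (h : IsColim Ra t L ι)
    (ht : ∀ (a b : κ) (h : a ≤ b), (t a b h).comp (algebraMap A (Ra a)) = algebraMap A (Ra b))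
    (hι : ∀ a, (ι a).comp (algebraMap A (Ra a)) = algebraMap A L)
    {z : L} (hz : z ∈ I.map (algebraMap A L)) :
    ∃ (a : κ) (w : Ra a), w ∈ I.map (algebraMap A (Ra a)) ∧ ι a w = z := by
  induction hz using Submodule.span_induction with
  | mem x hx =>
    obtain ⟨r, hr, rfl⟩ := hx
    obtain ⟨a⟩ := ‹Nonempty κ›
    refine ⟨a, algebraMap A (Ra a) r, Ideal.mem_map_of_mem _ hr, ?_⟩
    rw [← hι a]; rfl
  | zero =>
    obtain ⟨a⟩ := ‹Nonempty κ›
    exact ⟨a, 0, Ideal.zero_mem _, map_zero _⟩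
  | add x y _ _ hx hy =>
    obtain ⟨a, w, hw, rfl⟩ := hx
    obtain ⟨b, v, hv, rfl⟩ := hy
    obtain ⟨c, hac, hbc⟩ := exists_ge_ge a b
    refine ⟨c, t a c hac w + t b c hbc v, Ideal.add_mem _ ?_ ?_, ?_⟩
    · have := Ideal.mem_map_of_mem (t a c hac) hw
      rwa [Ideal.map_map, ht] at this
    · have := Ideal.mem_map_of_mem (t b c hbc) hv
      rwa [Ideal.map_map, ht] at this
    · rw [map_add, h.compat, h.compat]
  | smul r x _ hx =>
    obtain ⟨a, w, hw, rfl⟩ := hx
    obtain ⟨b, v, rfl⟩ := h.surj r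
    obtain ⟨c, hac, hbc⟩ := exists_ge_ge a b
    refine ⟨c, t b c hbc v * t a c hac w, Ideal.mul_mem_left _ _ ?_, ?_⟩
    · have := Ideal.mem_map_of_mem (t a c hac) hw
      rwa [Ideal.map_map, ht] at this
    · rw [map_mul, h.compat, h.compat, smul_eq_mul]

theorem IsColim.mem_of_mem (h : IsColim Ra t L ι)
    (ht : ∀ (a b : κ) (h : a ≤ b), (t a b h).comp (algebraMap A (Ra a)) = algebraMap A (Ra b))
    (hι : ∀ a, (ι a).comp (algebraMap A (Ra a)) = algebraMap A L)
    {a : κ} {x : Ra a} (hx : ι a x ∈ I.map (algebraMap A L)) :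
    ∃ (b : κ) (hb : a ≤ b), t a b hb x ∈ I.map (algebraMap A (Ra b)) := by
  obtain ⟨c, w, hw, hwx⟩ := h.exists_mem I ht hι hx
  obtain ⟨d, hcd, had, hd⟩ := h.eq' hwx
  refine ⟨d, had, ?_⟩
  rw [← hd]
  have := Ideal.mem_map_of_mem (t c d hcd) hw
  rwa [Ideal.map_map, ht] at this

/-- A directed colimit of henselian pairs is a henselian pair. -/
theorem IsColim.henselianRing (h : IsColim Ra t L ι)
    (ht : ∀ (a b : κ) (h : a ≤ b), (t a b h).comp (algebraMap A (Ra a)) = algebraMap A (Ra b))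
    (hι : ∀ a, (ι a).comp (algebraMap A (Ra a)) = algebraMap A L)
    (hR : ∀ a, HenselianRing (Ra a) (I.map (algebraMap A (Ra a)))) :
    HenselianRing L (I.map (algebraMap A L)) where
  jac := by
    intro z hz
    obtain ⟨a, w, hw, rfl⟩ := h.exists_mem I ht hι hz
    rw [Ideal.mem_jacobson_bot]
    intro y
    obtain ⟨b, v, rfl⟩ := h.surj y
    obtain ⟨c, hac, hbc⟩ := exists_ge_ge a b
    have h1 : t a c hac w ∈ I.map (algebraMap A (Ra c)) := by
      have := Ideal.mem_map_of_mem (t a c hac) hw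
      rwa [Ideal.map_map, ht] at this
    have h2 := (Ideal.mem_jacobson_bot.1 ((hR c).jac h1) (t b c hbc v)).map (ι c)
    rwa [map_add, map_mul, map_one, h.compat, h.compat] at h2
  is_henselian f hf a₀ h0 h1 := by
    classical
    -- an inverse of the derivative modulo `I`
    obtain ⟨y, hy⟩ := h1.exists_right_inv
    obtain ⟨y, rfl⟩ := Ideal.Quotient.mk_surjective y
    rw [← map_mul, ← map_one (Ideal.Quotient.mk _), Ideal.Quotient.eq] at hy
    obtain ⟨a, ha⟩ := h.exists_finset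
      (insert y (insert a₀ ((Finset.range (f.natDegree + 1)).image f.coeff)))
    obtain ⟨y', hy'⟩ := ha y (Finset.mem_insert_self _ _)
    obtain ⟨a₁, ha₁⟩ := ha a₀ (Finset.mem_insert_of_mem (Finset.mem_insert_self _ _))
    have hlift : f ∈ lifts (ι a) := by
      rw [lifts_iff_coeff_lifts]
      intro n
      by_cases hn : n < f.natDegree + 1
      · obtain ⟨y, hy⟩ := ha (f.coeff n) (Finset.mem_insert_of_mem (Finset.mem_insert_of_mem
          (Finset.mem_image_of_mem _ (Finset.mem_range.2 hn))))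
        exact ⟨y, hy⟩
      · exact ⟨0, by rw [map_zero, coeff_eq_zero_of_natDegree_lt (by omega)]⟩
    obtain ⟨g, hg, -, hgm⟩ := lifts_and_natDegree_eq_and_monic hlift hf
    have e0 : ι a (g.eval a₁) = eval a₀ f := by
      rw [← hg, ← ha₁, eval_map_apply]
    have e1 : ι a (g.derivative.eval a₁) = eval a₀ (derivative f) := by
      rw [← hg, ← ha₁, derivative_map, eval_map_apply]
    obtain ⟨b, hb, hb'⟩ := h.mem_of_mem I ht hι (a := a) (x := g.eval a₁) (by rw [e0]; exact h0)
    obtain ⟨c, hc, hc'⟩ := h.mem_of_mem I ht hι (a := a) (x := g.derivative.eval a₁ * y' - 1) (by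
      rw [map_sub, map_mul, e1, hy', map_one]; exact hy)
    obtain ⟨d, hbd, hcd⟩ := exists_ge_ge b c
    have m1 : t a d (hb.trans hbd) (g.eval a₁) ∈ I.map (algebraMap A (Ra d)) := by
      have := Ideal.mem_map_of_mem (t b d hbd) hb'
      rwa [Ideal.map_map, ht, h.trans] at this
    have m2 : t a d (hb.trans hbd) (g.derivative.eval a₁ * y' - 1) ∈
        I.map (algebraMap A (Ra d)) := by
      have := Ideal.mem_map_of_mem (t c d hcd) hc'
      rwa [Ideal.map_map, ht, h.trans] at this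
    have hda : a ≤ d := hb.trans hbd
    obtain ⟨x, hx, hx'⟩ := (hR d).is_henselian (g.map (t a d hda)) (hgm.map _) (t a d hda a₁) (by
      rw [eval_map_apply]; exact m1) (by
      rw [derivative_map, eval_map_apply]
      refine IsUnit.of_mul_eq_one (Ideal.Quotient.mk _ (t a d hda y')) ?_
      rw [← map_mul, ← map_one (Ideal.Quotient.mk _), Ideal.Quotient.eq, ← map_mul,
        ← map_one (t a d hda), ← map_sub]
      exact m2)
    refine ⟨ι d x, ?_, ?_⟩
    · rw [IsRoot.def] at hx ⊢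
      have h2 := congrArg (ι d) hx
      rw [map_zero, ← eval_map_apply, Polynomial.map_map] at h2
      have h3 : (ι d).comp (t a d hda) = ι a := RingHom.ext fun x => h.compat a d hda x
      rw [h3, hg] at h2
      exact h2
    · have h2 := Ideal.mem_map_of_mem (ι d) hx'
      rwa [Ideal.map_map, hι, map_sub, h.compat, ha₁] at h2

/-- Maps from a finitely presented algebra to a directed colimit. -/
theorem IsColim.exists_algHom (h : IsColim Ra t L ι)
    (ht : ∀ (a b : κ) (h : a ≤ b), (t a b h).comp (algebraMap A (Ra a)) = algebraMap A (Ra b))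
    (hι : ∀ a, (ι a).comp (algebraMap A (Ra a)) = algebraMap A L)
    (P : Type u) [CommRing P] [Algebra A P] [Algebra.FinitePresentation A P] (χ : P →ₐ[A] L)
    (a₀ : κ) : ∃ (a : κ) (_ : a₀ ≤ a) (φ : P →ₐ[A] Ra a), ∀ x, ι a (φ x) = χ x := by
  classical
  obtain ⟨n, p, hp, hk⟩ := (Algebra.FinitePresentation.out : ∃ (n : ℕ)
    (f : MvPolynomial (Fin n) A →ₐ[A] P), Function.Surjective f ∧ (RingHom.ker f.toRingHom).FG)
  obtain ⟨a, ha0, ha⟩ := h.exists_finset_ge (Finset.univ.image fun i => χ (p (MvPolynomial.X i))) a₀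
  choose y hy using fun i => ha _ (Finset.mem_image_of_mem _ (Finset.mem_univ i))
  let ρ : MvPolynomial (Fin n) A →ₐ[A] Ra a := MvPolynomial.aeval y
  let ιa : Ra a →ₐ[A] L := { ι a with commutes' := fun r => congrArg (fun f : A →+* L => f r) (hι a) }
  have hρ : ∀ q, ι a (ρ q) = χ (p q) := by
    intro q
    have : ιa.comp ρ = χ.comp p := by
      apply MvPolynomial.algHom_ext
      intro i
      change ι a (ρ (MvPolynomial.X i)) = _
      rw [MvPolynomial.aeval_X, hy]
      rfl
    exact congrArg (fun f : MvPolynomial (Fin n) A →ₐ[A] L => f q) this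
  obtain ⟨s, hs⟩ := hk
  obtain ⟨b, hb, hb'⟩ := h.eq_finset s (fun q => ρ q) (fun _ => 0) (fun q hq => by
    rw [hρ, map_zero]
    have : q ∈ RingHom.ker p.toRingHom := by rw [← hs]; exact Ideal.subset_span hq
    have h1 : p q = 0 := this
    rw [h1, map_zero])
  let tb : Ra a →ₐ[A] Ra b :=
    { t a b hb with commutes' := fun r => congrArg (fun f : A →+* Ra b => f r) (ht a b hb) }
  have hker : RingHom.ker p ≤ RingHom.ker (tb.comp ρ) := by
    have : RingHom.ker p.toRingHom ≤ RingHom.ker (tb.comp ρ).toRingHom := by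
      rw [← hs, Ideal.span_le]
      intro q hq
      have := hb' q hq
      rw [map_zero] at this
      exact this
    exact this
  refine ⟨b, ha0.trans hb, AlgHom.liftOfSurjective p hp (tb.comp ρ) hker, fun x => ?_⟩
  obtain ⟨q, rfl⟩ := hp x
  have h1 : AlgHom.liftOfSurjective p hp (tb.comp ρ) hker (p q) = tb (ρ q) := by simp
  rw [h1]
  change ι b (t a b hb (ρ q)) = _
  rw [h.compat, hρ]

omit [Nonempty κ] [Algebra A L] in
/-- Two maps from a finite type algebra to a stage which agree in the colimit agree at a later stage. -/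
theorem IsColim.algHom_eq (h : IsColim Ra t L ι)
    (P : Type u) [CommRing P] [Algebra A P] [Algebra.FiniteType A P]
    (ht : ∀ (a b : κ) (h : a ≤ b), (t a b h).comp (algebraMap A (Ra a)) = algebraMap A (Ra b))
    {a : κ} (φ ψ : P →ₐ[A] Ra a) (hφψ : ∀ x, ι a (φ x) = ι a (ψ x)) :
    ∃ (b : κ) (hb : a ≤ b), ∀ x, t a b hb (φ x) = t a b hb (ψ x) := by
  classical
  obtain ⟨s, hs⟩ := (Algebra.FiniteType.out : (⊤ : Subalgebra A P).FG)
  obtain ⟨b, hb, hb'⟩ := h.eq_finset s (fun x => φ x) (fun x => ψ x) (fun x _ => hφψ x)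
  refine ⟨b, hb, fun x => ?_⟩
  let tb : Ra a →ₐ[A] Ra b :=
    { t a b hb with commutes' := fun r => congrArg (fun f : A →+* Ra b => f r) (ht a b hb) }
  have h1 : Set.EqOn (tb.comp φ) (tb.comp ψ) (s : Set P) := fun x hx => hb' x hx
  have h2 : tb.comp φ = tb.comp ψ := AlgHom.ext_of_adjoin_eq_top hs h1
  exact congrArg (fun f : P →ₐ[A] Ra b => f x) h2

end Alg

end K145.Colim
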