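import Groth.Agent.Hensel.K145.Limit

/-!
Henselian finite presentation is local on the source: factoring maps through a stage, locally.
-/

set_option autoImplicit false

universe u

namespace K145.Cover

open K145.Univ K145.Nbhd K145.Away K145.Colim K145.FPColim K145.HAway

theorem exists_factor {A : Type u} [CommRing A] {I : Ideal A} {B : Type u} [CommRing B]
    [Algebra A B] (n : ℕ) (f : Fin n → B) (H : Fin n → Type u) [∀ i, CommRing (H i)]
    [∀ i, Algebra B (H i)] [∀ i, Algebra A (H i)] [∀ i, IsScalarTower A B (H i)]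
    (hL : ∀ i, LPH (I.map (algebraMap A B)) (f i) (H i))
    (R : Fin n → Type u) [∀ i, CommRing (R i)] [∀ i, Algebra A (R i)]
    [∀ i, Algebra.FinitePresentation A (R i)] [∀ i, Algebra (R i) (H i)]
    [∀ i, IsScalarTower A (R i) (H i)]
    (hR : ∀ i, Hens2.IsPairHenselization (R i) (I.map (algebraMap A (R i))) (H i))
    {κ : Type u} [Preorder κ] [IsDirectedOrder κ] [Nonempty κ] (S : HSys A I κ)
    (χ : B →ₐ[A] S.lim) (u : Fin n → ∀ a, S.obj a)
    (hu : ∀ i a b h, S.t a b h (u i a) = u i b) (hχu : ∀ i a, S.ι a (u i a) = χ (f i))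
    (hspan : ∀ a, Ideal.span (Set.range fun i => u i a) = ⊤) :
    ∃ (a : κ) (φ : B →ₐ[A] S.obj a), ∀ x, S.ι a (φ x) = χ x := by
  classical
  obtain ⟨a₀⟩ := ‹Nonempty κ›
  have huu : ∀ i j a b h, S.t a b h (u i a * u j a) = u i b * u j b := fun i j a b h => by
    rw [map_mul, hu, hu]
  let V : Fin n → HSys A I κ := fun i => S.away (u i) (hu i)
  let W : Fin n → Fin n → HSys A I κ := fun i j => S.away (fun a => u i a * u j a) (huu i j)
  choose lam hlam using fun i => S.exists_limTo (u i) (hu i)
  have hlam' : ∀ i a x, lam i (S.ι a x) =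
    (S.away (u i) (hu i)).ι a (algebraMap (S.obj a) ((S.away (u i) (hu i)).obj a) x) := hlam
  -- extension of `χ`
  choose X hX using fun i => exists_algHom (hL i).leq (S.away (u i) (hu i)).lim_hens
    ((lam i).comp χ) (by
      rw [AlgHom.comp_apply, ← hχu i a₀, hlam']
      exact (S.lph_away (u i) (hu i) a₀).leq.unit.map _)
  have hX' : ∀ i x, X i (algebraMap B (H i) x) = lam i (χ x) := hX
  -- lifts to a common stage
  choose a1 _ φ1 hφ1 using fun i =>
    (S.away (u i) (hu i)).exists_lift (R i) (H i) (hR i) (X i) a₀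
  obtain ⟨M, hM⟩ := Finite.exists_le a1
  let φ2 : ∀ i, H i →ₐ[A] (S.away (u i) (hu i)).obj M := fun i =>
    ((S.away (u i) (hu i)).t (a1 i) M (hM i)).comp (φ1 i)
  have hφ2 : ∀ i x, (S.away (u i) (hu i)).ι M (φ2 i x) = X i x := fun i x => by
    change (S.away (u i) (hu i)).ι M ((S.away (u i) (hu i)).t (a1 i) M (hM i) (φ1 i x)) = _
    rw [HSys.compat, hφ1]
  -- the images of the `f i`
  have h4 : ∀ p : Fin n × Fin n, ∃ (b : κ) (h : M ≤ b), (S.away (u p.2) (hu p.2)).t M b h
      (φ2 p.2 (algebraMap B (H p.2) (f p.1))) = (S.away (u p.2) (hu p.2)).t M b h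
      (algebraMap (S.obj M) ((S.away (u p.2) (hu p.2)).obj M) (u p.1 M)) := by
    intro p
    apply HSys.eq
    rw [hφ2, hX', ← hlam', hχu]
  choose b1 hb1 hb1' using h4
  obtain ⟨b', hb'⟩ := Finite.exists_le b1
  obtain ⟨b, hbb, hMb⟩ := exists_ge_ge b' M
  let φ3 : ∀ i, H i →ₐ[A] (S.away (u i) (hu i)).obj b := fun i =>
    ((S.away (u i) (hu i)).t M b hMb).comp (φ2 i)
  have hφ3 : ∀ i x, (S.away (u i) (hu i)).ι b (φ3 i x) = X i x := fun i x => by
    change (S.away (u i) (hu i)).ι b ((S.away (u i) (hu i)).t M b hMb (φ2 i x)) = _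
    rw [HSys.compat, hφ2]
  have h5 : ∀ i j, φ3 j (algebraMap B (H j) (f i)) =
      algebraMap (S.obj b) ((S.away (u j) (hu j)).obj b) (u i b) := by
    intro i j
    have h6 := congrArg ((S.away (u j) (hu j)).t (b1 (i, j)) b ((hb' (i, j)).trans hbb))
      (hb1' (i, j))
    rw [HSys.t_trans, HSys.t_trans, HSys.away_t, hu] at h6
    exact h6
  -- restrictions
  choose rl Ml hrl1 hrl2 hrl3 using fun i j => S.exists_restrict (u i) (hu i)
    (fun a => u i a * u j a) (huu i j) (u j) (fun a => rfl)
  choose rr Mr hrr1 hrr2 hrr3 using fun i j => S.exists_restrict (u j) (hu j)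
    (fun a => u i a * u j a) (huu i j) (u i) (fun a => mul_comm _ _)
  have hMM : ∀ i j (z : S.lim), Ml i j (lam i z) = Mr i j (lam j z) := by
    intro i j z
    obtain ⟨a, y, rfl⟩ := S.surj z
    rw [hlam', hlam', hrl3, hrr3, hrl1, hrr1]
  let g : ∀ i j, B →ₐ[A] (S.away (fun a => u i a * u j a) (huu i j)).obj b := fun i j =>
    ((rr i j b).comp (φ3 j)).comp (IsScalarTower.toAlgHom A B (H j))
  have hg : ∀ i j x, g i j x = rr i j b (φ3 j (algebraMap B (H j) x)) := fun i j x => rfl
  choose β hβ using fun i j => exists_algHom (hL i).leq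
    ((S.away (fun a => u i a * u j a) (huu i j)).hens b) (g i j) (by
      rw [hg, h5, hrr1]
      have := (S.lph_away (fun a => u i a * u j a) (huu i j) b).leq.unit
      rw [map_mul] at this
      exact isUnit_of_mul_isUnit_left this)
  have hβ' : ∀ i j x, β i j (algebraMap B (H i) x) = g i j x := hβ
  have h7 : ∀ i j x, (S.away (fun a => u i a * u j a) (huu i j)).ι b (rl i j b (φ3 i x)) =
      (S.away (fun a => u i a * u j a) (huu i j)).ι b (β i j x) := by
    intro i j x
    have : ((S.away (fun a => u i a * u j a) (huu i j)).ι b).comp ((rl i j b).comp (φ3 i)) =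
        ((S.away (fun a => u i a * u j a) (huu i j)).ι b).comp (β i j) := by
      refine algHom_ext (hL i).leq (S.away (fun a => u i a * u j a) (huu i j)).lim_hens _ _
        fun x => ?_
      change (S.away (fun a => u i a * u j a) (huu i j)).ι b
          (rl i j b (φ3 i (algebraMap B (H i) x))) =
        (S.away (fun a => u i a * u j a) (huu i j)).ι b (β i j (algebraMap B (H i) x))
      rw [hβ', hg, ← hrl3, ← hrr3, hφ3, hφ3, hX', hX', hMM]
    exact congrArg (fun F : H i →ₐ[A] _ => F x) this
  have h8 : ∀ p : Fin n × Fin n, ∃ (c : κ) (hc : b ≤ c), ∀ x,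
      (S.away (fun a => u p.1 a * u p.2 a) (huu p.1 p.2)).t b c hc (rl p.1 p.2 b (φ3 p.1 x)) =
      (S.away (fun a => u p.1 a * u p.2 a) (huu p.1 p.2)).t b c hc (β p.1 p.2 x) := by
    intro p
    exact (S.away (fun a => u p.1 a * u p.2 a) (huu p.1 p.2)).eventually_eq (R p.1) (H p.1)
      (hR p.1) ((rl p.1 p.2 b).comp (φ3 p.1)) (β p.1 p.2) (h7 p.1 p.2)
  choose c1 hc1 hc1' using h8
  obtain ⟨c', hc'⟩ := Finite.exists_le c1
  obtain ⟨c, hcc, hbc⟩ := exists_ge_ge c' b
  let ψ : ∀ i, B →ₐ[A] (S.away (u i) (hu i)).obj c := fun i =>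
    (((S.away (u i) (hu i)).t b c hbc).comp (φ3 i)).comp (IsScalarTower.toAlgHom A B (H i))
  have hψ : ∀ i x, ψ i x = (S.away (u i) (hu i)).t b c hbc (φ3 i (algebraMap B (H i) x)) :=
    fun i x => rfl
  have h9 : ∀ i j x, rl i j c (ψ i x) = rr i j c (ψ j x) := by
    intro i j x
    have h10 := congrArg ((S.away (fun a => u i a * u j a) (huu i j)).t (c1 (i, j)) c
      ((hc' (i, j)).trans hcc)) (hc1' (i, j) (algebraMap B (H i) x))
    rw [HSys.t_trans, HSys.t_trans] at h10
    rw [hψ, hψ, hrl2, hrr2]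
    refine h10.trans ?_
    rw [hβ', hg]
  -- glueing
  have hcens := S.hens c
  have hcov : ∀ a, I.map (algebraMap A (S.obj a)) ⊔
      Ideal.span (Set.range fun i : ULift.{u} (Fin n) => u i.down a) = ⊤ := by
    intro a
    rw [eq_top_iff, ← hspan a]
    refine le_trans (Ideal.span_mono ?_) le_sup_right
    rintro _ ⟨i, rfl⟩
    exact ⟨⟨i⟩, rfl⟩
  have hinj : ∀ (a : κ) (z z' : S.obj a), (∀ i,
      algebraMap (S.obj a) ((S.away (u i) (hu i)).obj a) z =
        algebraMap (S.obj a) ((S.away (u i) (hu i)).obj a) z') → z = z' := by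
    intro a z z' h
    have := S.hens a
    rw [← sub_eq_zero]
    refine K145.Sheaf.eq_zero (I.map (algebraMap A (S.obj a)))
      (fun i : ULift.{u} (Fin n) => u i.down a) (hcov a)
      (fun i => (S.away (u i.down) (hu i.down)).obj a)
      (fun i => S.lph_away (u i.down) (hu i.down) a) _ fun i => ?_
    rw [map_sub, h, sub_self]
  have hex : ∀ x : B, ∃ y : S.obj c, ∀ i,
      algebraMap (S.obj c) ((S.away (u i) (hu i)).obj c) y = ψ i x := by
    intro x
    obtain ⟨y, hy⟩ := K145.Sheaf.exists_section (I.map (algebraMap A (S.obj c)))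
      (fun i : ULift.{u} (Fin n) => u i.down c) (hcov c)
      (fun i => (S.away (u i.down) (hu i.down)).obj c)
      (fun i => S.lph_away (u i.down) (hu i.down) c)
      (fun i j => (S.away (fun a => u i.down a * u j.down a) (huu i.down j.down)).obj c)
      (fun i j => S.lph_away (fun a => u i.down a * u j.down a) (huu i.down j.down) c)
      (fun i j => { (rl i.down j.down c).toRingHom with
        commutes' := fun z => hrl1 i.down j.down c z })
      (fun i j => { (rr i.down j.down c).toRingHom with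
        commutes' := fun z => hrr1 i.down j.down c z })
      (fun i => ψ i.down x) (fun i j => h9 i.down j.down x)
    exact ⟨y, fun i => hy ⟨i⟩⟩
  choose y hy using hex
  let φ : B →ₐ[A] S.obj c :=
    { toFun := y
      map_one' := by
        apply hinj; intro i; rw [hy, map_one, map_one]
      map_zero' := by
        apply hinj; intro i; rw [hy, map_zero, map_zero]
      map_mul' := fun p q => by
        apply hinj; intro i; rw [hy, map_mul, map_mul, hy, hy]
      map_add' := fun p q => by
        apply hinj; intro i; rw [hy, map_add, map_add, hy, hy]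
      commutes' := fun r => by
        apply hinj; intro i
        rw [hy, AlgHom.commutes, ← IsScalarTower.algebraMap_apply] }
  refine ⟨c, φ, fun x => ?_⟩
  have hlaminj : ∀ z : S.lim, (∀ i, lam i z = 0) → z = 0 := by
    intro z hz
    obtain ⟨d, w, rfl⟩ := S.surj z
    have h11 : ∀ i, ∃ (e : κ) (he : d ≤ e), (S.away (u i) (hu i)).t d e he
        (algebraMap (S.obj d) ((S.away (u i) (hu i)).obj d) w) = 0 := by
      intro i
      apply (S.away (u i) (hu i)).isColim.zero
      have := hz i
      rw [hlam'] at this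
      exact this
    choose e he he' using h11
    obtain ⟨e', hee⟩ := Finite.exists_le e
    obtain ⟨e'', hee', hde⟩ := exists_ge_ge e' d
    have h12 : S.t d e'' hde w = 0 := by
      apply hinj
      intro i
      rw [map_zero, ← HSys.away_t]
      have := congrArg ((S.away (u i) (hu i)).t (e i) e'' ((hee i).trans hee')) (he' i)
      rwa [HSys.t_trans, map_zero] at this
    rw [← S.compat d e'' hde, h12, map_zero]
  rw [← sub_eq_zero]
  apply hlaminj
  intro i
  rw [map_sub, hlam']
  change (S.away (u i) (hu i)).ι c (algebraMap (S.obj c) ((S.away (u i) (hu i)).obj c) (y x)) - _ = 0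
  rw [hy, hψ, HSys.compat, hφ3, hX', sub_self]

end K145.Cover
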