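import Groth.Agent.Hensel.K145.Colim
import Mathlib.Algebra.MvPolynomial.Supported
import Mathlib.RingTheory.FinitePresentation

/-!
Every algebra is a directed colimit (over a preorder in the universe of the rings) of finitely presented
algebras; maps out of a directed colimit.
-/

set_option autoImplicit false

universe u

namespace K145.FPColim

open K145.Colim MvPolynomial

section Desc

variable {κ : Type u} [Preorder κ] [IsDirectedOrder κ] [Nonempty κ]
  {Ra : κ → Type u} [∀ a, CommRing (Ra a)] {t : ∀ a b : κ, a ≤ b → (Ra a →+* Ra b)}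
  {L : Type u} [CommRing L] {ι : ∀ a, Ra a →+* L}

/-- Maps out of a directed colimit. -/
theorem exists_desc (h : IsColim Ra t L ι) (M : Type*) [CommRing M] (γ : ∀ a, Ra a →+* M)
    (hγ : ∀ (a b : κ) (h : a ≤ b) (x : Ra a), γ b (t a b h x) = γ a x) :
    ∃ χ : L →+* M, ∀ a, χ.comp (ι a) = γ a := by
  choose i y hy using h.surj
  have key : ∀ (a : κ) (x : Ra a) (z : L), ι a x = z → γ (i z) (y z) = γ a x := by
    intro a x z hz
    obtain ⟨c, h1, h2, hc⟩ := h.eq' (a := i z) (b := a) (x := y z) (y := x) (by rw [hy, hz])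
    have := congrArg (γ c) hc
    rwa [hγ, hγ] at this
  let χ : L →+* M :=
    { toFun := fun z => γ (i z) (y z)
      map_one' := by
        obtain ⟨a⟩ := ‹Nonempty κ›
        change γ (i 1) (y 1) = 1
        rw [key a 1 1 (map_one _), map_one]
      map_zero' := by
        obtain ⟨a⟩ := ‹Nonempty κ›
        change γ (i 0) (y 0) = 0
        rw [key a 0 0 (map_zero _), map_zero]
      map_mul' := fun p q => by
        obtain ⟨c, h1, h2⟩ := exists_ge_ge (i p) (i q)
        change γ _ (y (p * q)) = γ _ (y p) * γ _ (y q)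
        rw [key c (t _ c h1 (y p) * t _ c h2 (y q)) (p * q) (by
          rw [map_mul, h.compat, h.compat, hy, hy]), map_mul, hγ, hγ]
      map_add' := fun p q => by
        obtain ⟨c, h1, h2⟩ := exists_ge_ge (i p) (i q)
        change γ _ (y (p + q)) = γ _ (y p) + γ _ (y q)
        rw [key c (t _ c h1 (y p) + t _ c h2 (y q)) (p + q) (by
          rw [map_add, h.compat, h.compat, hy, hy]), map_add, hγ, hγ] }
  exact ⟨χ, fun a => RingHom.ext fun x => key a x _ rfl⟩

omit [IsDirectedOrder κ] [Nonempty κ] in
theorem hom_ext (h : IsColim Ra t L ι) {M : Type*} [CommRing M] {χ χ' : L →+* M}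
    (hχ : ∀ a, χ.comp (ι a) = χ'.comp (ι a)) : χ = χ' := by
  ext z
  obtain ⟨a, x, rfl⟩ := h.surj z
  exact congrArg (fun f : Ra a →+* M => f x) (hχ a)

end Desc

section Present

variable (A : Type u) [CommRing A] (B : Type u) [CommRing B] [Algebra A B]

/-- the index set: finite sets of generators and finite sets of relations among them -/
def Idx : Type u :=
  {k : Finset B × Finset (MvPolynomial B A) // ∀ p ∈ k.2, p ∈ supported A (k.1 : Set B) ∧
    aeval (R := A) (id : B → B) p = 0}

instance : Preorder (Idx A B) := Subtype.preorder _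

instance : Nonempty (Idx A B) := ⟨⟨(∅, ∅), by simp⟩⟩

instance : IsDirectedOrder (Idx A B) := by
  classical
  refine ⟨fun k l => ⟨⟨(k.1.1 ∪ l.1.1, k.1.2 ∪ l.1.2), ?_⟩, ⟨?_, ?_⟩, ⟨?_, ?_⟩⟩⟩
  · intro p hp
    rcases Finset.mem_union.1 hp with hp | hp
    · exact ⟨supported_mono (by simp) (k.2 p hp).1, (k.2 p hp).2⟩
    · exact ⟨supported_mono (by simp) (l.2 p hp).1, (l.2 p hp).2⟩
  · exact Finset.subset_union_left
  · exact Finset.subset_union_left
  · exact Finset.subset_union_right
  · exact Finset.subset_union_right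

variable {A B}

/-- the relations at a stage -/
noncomputable def rel (k : Idx A B) : Ideal (supported A (k.1.1 : Set B)) :=
  Ideal.span {x | (x : MvPolynomial B A) ∈ k.1.2}

/-- the algebra at a stage -/
abbrev Stage (k : Idx A B) : Type u := supported A (k.1.1 : Set B) ⧸ rel k

instance finitePresentation (k : Idx A B) : Algebra.FinitePresentation A (Stage k) := by
  have h1 : Algebra.FinitePresentation A (supported A (k.1.1 : Set B)) :=
    Algebra.FinitePresentation.equiv (supportedEquivMvPolynomial (R := A) (k.1.1 : Set B)).symm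
  refine Algebra.FinitePresentation.quotient ?_
  have hfin : {x : supported A (k.1.1 : Set B) | (x : MvPolynomial B A) ∈ k.1.2}.Finite :=
    Set.Finite.preimage Subtype.val_injective.injOn k.1.2.finite_toSet
  exact ⟨hfin.toFinset, by rw [Set.Finite.coe_toFinset]; rfl⟩

theorem incl_mem {k l : Idx A B} (h : k ≤ l) :
    supported A (k.1.1 : Set B) ≤ supported A (l.1.1 : Set B) :=
  supported_mono (by exact_mod_cast h.1)

/-- the transition maps -/
noncomputable def tr (k l : Idx A B) (h : k ≤ l) : Stage k →+* Stage l :=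
  Ideal.quotientMap (rel l) (Subalgebra.inclusion (incl_mem h)).toRingHom (by
    rw [rel, Ideal.span_le]
    intro x hx
    exact Ideal.subset_span (h.2 hx))

/-- the maps to `B` -/
noncomputable def toB (k : Idx A B) : Stage k →+* B :=
  Ideal.Quotient.lift (rel k)
    ((aeval (R := A) (id : B → B)).comp (supported A (k.1.1 : Set B)).val).toRingHom (by
    intro x hx
    have : rel k ≤ RingHom.ker
        ((aeval (R := A) (id : B → B)).comp (supported A (k.1.1 : Set B)).val).toRingHom := by
      rw [rel, Ideal.span_le]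
      intro x hx
      exact (k.2 _ hx).2
    exact this hx)

theorem tr_algebraMap (k l : Idx A B) (h : k ≤ l) :
    (tr k l h).comp (algebraMap A (Stage k)) = algebraMap A (Stage l) := rfl

theorem toB_algebraMap (k : Idx A B) :
    (toB k).comp (algebraMap A (Stage k)) = algebraMap A B := by
  ext a
  change aeval (R := A) (id : B → B) (algebraMap A (MvPolynomial B A) a) = _
  rw [AlgHom.commutes]

theorem tr_self (a : Idx A B) (x : Stage a) : tr a a le_rfl x = x := by
  obtain ⟨x, rfl⟩ := Ideal.Quotient.mk_surjective x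
  rfl

theorem isColim : IsColim (fun k : Idx A B => Stage k) tr B toB where
  trans a b c h h' x := by
    obtain ⟨x, rfl⟩ := Ideal.Quotient.mk_surjective x
    rfl
  compat a b h x := by
    obtain ⟨x, rfl⟩ := Ideal.Quotient.mk_surjective x
    rfl
  surj x := by
    refine ⟨⟨({x}, ∅), by simp⟩, Ideal.Quotient.mk _ ⟨X x, ?_⟩, ?_⟩
    · rw [supported_eq_adjoin_X]
      exact Algebra.subset_adjoin ⟨x, by simp, rfl⟩
    · change aeval (R := A) (id : B → B) (X x) = x
      rw [aeval_X]; rfl
  zero a y h := by
    classical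
    obtain ⟨p, rfl⟩ := Ideal.Quotient.mk_surjective y
    have h1 : aeval (R := A) (id : B → B) (p : MvPolynomial B A) = 0 := h
    let l : Idx A B := ⟨(a.1.1, insert (p : MvPolynomial B A) a.1.2), by
      intro q hq
      rcases Finset.mem_insert.1 hq with rfl | hq
      · exact ⟨p.2, h1⟩
      · exact a.2 q hq⟩
    have hl : a ≤ l := ⟨Finset.Subset.refl _, Finset.subset_insert _ _⟩
    refine ⟨l, hl, ?_⟩
    change Ideal.Quotient.mk (rel l) (Subalgebra.inclusion (incl_mem hl) p) = 0
    rw [Ideal.Quotient.eq_zero_iff_mem]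
    exact Ideal.subset_span (Finset.mem_insert_self (p : MvPolynomial B A) a.1.2)

end Present

/-- Every algebra is a directed colimit of finitely presented algebras. -/
theorem exists_isColim (A : Type u) [CommRing A] (B : Type u) [CommRing B] [Algebra A B] :
    ∃ (κ : Type u) (_ : Preorder κ) (_ : IsDirectedOrder κ) (_ : Nonempty κ) (R : κ → Type u)
      (_ : ∀ k, CommRing (R k)) (_ : ∀ k, Algebra A (R k)) (t : ∀ a b : κ, a ≤ b → (R a →+* R b))
      (β : ∀ k, R k →+* B),
      (∀ k, Algebra.FinitePresentation A (R k)) ∧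
      (∀ (a b : κ) (h : a ≤ b), (t a b h).comp (algebraMap A (R a)) = algebraMap A (R b)) ∧
      (∀ k, (β k).comp (algebraMap A (R k)) = algebraMap A B) ∧
      (∀ (a : κ) (x : R a), t a a le_rfl x = x) ∧ IsColim R t B β :=
  ⟨Idx A B, inferInstance, inferInstance, inferInstance, fun k => Stage k, inferInstance,
    inferInstance, tr, toB, finitePresentation, tr_algebraMap, toB_algebraMap,
    tr_self, isColim⟩

end K145.FPColim
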