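import Groth.Agent.Hensel.K145.Nbhd

/-!
Faithful flatness of a henselization of a pair contained in the Jacobson radical, and primes over `V(I)`.
-/

set_option autoImplicit false

universe u

open TensorProduct

namespace K145.Faithful

open K145.Univ K145.Nbhd Groth.Agent.Etalg.PairHens2

variable {R : Type u} [CommRing R] {I : Ideal R} {B : Type u} [CommRing B] [Algebra R B]

/-- Elements of `K B`, for `K ≥ I`, are congruent to elements of `K` modulo `I B`. -/
theorem exists_sub_mem_of_mem_map (h : Hens2.IsPairHenselization R I B) (K : Ideal R)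
    {x : B} (hx : x ∈ K.map (algebraMap R B)) :
    ∃ k ∈ K, x - algebraMap R B k ∈ I.map (algebraMap R B) := by
  induction hx using Submodule.span_induction with
  | mem x hx =>
    obtain ⟨a, ha, rfl⟩ := hx
    exact ⟨a, ha, by simp⟩
  | zero => exact ⟨0, K.zero_mem, by simp⟩
  | add x y _ _ hx hy =>
    obtain ⟨k, hk, hx⟩ := hx
    obtain ⟨l, hl, hy⟩ := hy
    refine ⟨k + l, K.add_mem hk hl, ?_⟩
    have := add_mem hx hy
    rw [map_add]
    rwa [show x - algebraMap R B k + (y - algebraMap R B l) =
      x + y - (algebraMap R B k + algebraMap R B l) by ring] at this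
  | smul c x _ hx =>
    obtain ⟨k, hk, hx⟩ := hx
    obtain ⟨r, hr⟩ := ph_exists_sub_mem h c
    refine ⟨r * k, K.mul_mem_left _ hk, ?_⟩
    have := add_mem (Ideal.mul_mem_left _ c hx) (Ideal.mul_mem_left _ (algebraMap R B k) hr)
    rw [map_mul]
    rwa [show c * (x - algebraMap R B k) + algebraMap R B k * (c - algebraMap R B r) =
      c • x - algebraMap R B r * algebraMap R B k by rw [smul_eq_mul]; ring] at this

/-- `KB ∩ R = K` for `K ≥ I`. -/
theorem comap_map_eq (h : Hens2.IsPairHenselization R I B) (K : Ideal R) (hK : I ≤ K) :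
    (K.map (algebraMap R B)).comap (algebraMap R B) = K := by
  apply le_antisymm _ Ideal.le_comap_map
  intro r hr
  obtain ⟨k, hk, hrk⟩ := exists_sub_mem_of_mem_map h K hr
  rw [← map_sub] at hrk
  have := hK (ph_mem_of_map_mem h _ hrk)
  have h1 := K.add_mem this hk
  rwa [sub_add_cancel] at h1

/-- A prime containing `I` extends to a prime. -/
theorem isPrime_map (h : Hens2.IsPairHenselization R I B) (p : Ideal R) [p.IsPrime] (hp : I ≤ p) :
    (p.map (algebraMap R B)).IsPrime := by
  refine ⟨fun htop => ?_, fun {x y} hxy => ?_⟩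
  · have := comap_map_eq h p hp
    rw [htop, Ideal.comap_top] at this
    exact (inferInstance : p.IsPrime).ne_top this.symm
  · obtain ⟨r, hr⟩ := ph_exists_sub_mem h x
    obtain ⟨s, hs⟩ := ph_exists_sub_mem h y
    have hle : I.map (algebraMap R B) ≤ p.map (algebraMap R B) := Ideal.map_mono hp
    have hr' := hle hr
    have hs' := hle hs
    have hrs : r * s ∈ p := by
      rw [← comap_map_eq h p hp, Ideal.mem_comap, map_mul]
      have : algebraMap R B r * algebraMap R B s = x * y - ((x - algebraMap R B r) * y +
          algebraMap R B r * (y - algebraMap R B s)) := by ring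
      rw [this]
      exact sub_mem hxy (add_mem (Ideal.mul_mem_right _ _ hr') (Ideal.mul_mem_left _ _ hs'))
    rcases (inferInstance : p.IsPrime).mem_or_mem hrs with hr1 | hs1
    · left
      have := add_mem hr' (Ideal.mem_map_of_mem (algebraMap R B) hr1)
      rwa [sub_add_cancel] at this
    · right
      have := add_mem hs' (Ideal.mem_map_of_mem (algebraMap R B) hs1)
      rwa [sub_add_cancel] at this

/-- For `I` in the Jacobson radical the henselization is faithfully flat. -/
theorem faithfullyFlat (h : Hens2.IsPairHenselization R I B) (hI : I ≤ Ideal.jacobson ⊥) :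
    Module.FaithfullyFlat R B := by
  have hf := Groth.Agent.Etalg.PairHens2.flat B h
  refine ⟨fun {m} hm htop => ?_⟩
  have hIm : I ≤ m := hI.trans (sInf_le ⟨bot_le, hm⟩)
  have h1 := comap_map_eq h m hIm
  have h2 : m.map (algebraMap R B) = ⊤ := by
    rw [Ideal.eq_top_iff_one]
    have h3 : (1 : B) ∈ m • (⊤ : Submodule R B) := by rw [htop]; trivial
    rwa [Ideal.smul_top_eq_map, Submodule.restrictScalars_mem] at h3
  rw [h2, Ideal.comap_top] at h1
  exact hm.ne_top h1.symm

end K145.Faithful

namespace K145.Faithful

/-- Existence of henselizations of pairs, packaged. -/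
theorem exists_ph (A : Type u) [CommRing A] (I : Ideal A) :
    ∃ (H : Type u) (_ : CommRing H) (_ : Algebra A H), Hens2.IsPairHenselization A I H :=
  ⟨_, inferInstance, inferInstance, Groth.Agent.Etalg.PairHens.isPairHenselization_Hens A I⟩

theorem one_tmul_eq_zero_of_faithfullyFlat {A P H N : Type*} [CommRing A] [CommRing P] [CommRing H]
    [Algebra A P] [Algebra P H] [Algebra A H] [IsScalarTower A P H] [Module.FaithfullyFlat P H]
    [AddCommGroup N] [Module A N] (n : N) (h : (1 : H) ⊗ₜ[A] n = 0) : (1 : P) ⊗ₜ[A] n = 0 := by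
  rw [← Module.FaithfullyFlat.one_tmul_eq_zero_iff P (P ⊗[A] N) (A := H)]
  apply (TensorProduct.AlgebraTensorModule.cancelBaseChange A P H H N).injective
  rw [TensorProduct.AlgebraTensorModule.cancelBaseChange_tmul, one_smul, map_zero]
  exact h

end K145.Faithful
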