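import Groth.Agent.Hensel.K145.Trunc
import Groth.Agent.Hensel.K145.Faithful
import Mathlib.RingTheory.Smooth.Fiber

/-!
Flatness and smoothness of a finitely presented model at the primes over `V(I)`.
-/

set_option autoImplicit false

universe u

open TensorProduct

namespace K145.FlatDesc

open K145.Univ K145.Nbhd K145.Trunc

theorem flat_of_comp (R S T : Type u) [CommRing R] [CommRing S] [CommRing T]
    [Algebra R S] [Algebra S T] [Algebra R T] [IsScalarTower R S T] [Module.FaithfullyFlat S T]
    [Module.Flat R T] : Module.Flat R S := by
  rw [Module.Flat.iff_lTensor_preserves_injective_linearMap]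
  intro M N _ _ _ _ l hl
  have h1 : Function.Injective (l.baseChange S) ↔ Function.Injective (l.lTensor S) := Iff.rfl
  rw [← h1, ← Module.FaithfullyFlat.lTensor_injective_iff_injective S T]
  have h2 : Function.Injective (l.lTensor T) :=
    Module.Flat.lTensor_preserves_injective_linearMap l hl
  let eM := TensorProduct.AlgebraTensorModule.cancelBaseChange R S T T M
  let eN := TensorProduct.AlgebraTensorModule.cancelBaseChange R S T T N
  have h3 : (l.baseChange T) ∘ₗ eM.toLinearMap =
      eN.toLinearMap ∘ₗ ((l.baseChange S).baseChange T) := by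
    ext m
    simp [eM, eN]
  have h4 : Function.Injective ((l.baseChange T) ∘ₗ eM.toLinearMap) := by
    rw [LinearMap.coe_comp]
    exact Function.Injective.comp h2 eM.injective
  rw [h3, LinearMap.coe_comp] at h4
  exact Function.Injective.of_comp h4

/-- Flatness at a prime descends along a flat map. -/
theorem flat_atPrime {A R B : Type u} [CommRing A] [CommRing R] [CommRing B] [Algebra A R]
    [Algebra R B] [Algebra A B] [IsScalarTower A R B] [Module.Flat R B] [Module.Flat A B]
    (p : Ideal R) [p.IsPrime] (P : Ideal B) [P.IsPrime] (h : P.comap (algebraMap R B) = p) :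
    Module.Flat A (Localization.AtPrime p) := by
  let φ := Localization.localRingHom p P (algebraMap R B) h.symm
  let _ : Algebra (Localization.AtPrime p) (Localization.AtPrime P) := φ.toAlgebra
  have h1 : IsScalarTower R (Localization.AtPrime p) (Localization.AtPrime P) := by
    apply IsScalarTower.of_algebraMap_eq
    intro x
    rw [IsScalarTower.algebraMap_apply R B (Localization.AtPrime P)]
    exact (Localization.localRingHom_to_map p P (algebraMap R B) h.symm x).symm
  have h2 : Module.Flat B (Localization.AtPrime P) := IsLocalization.flat _ P.primeCompl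
  have h3 : Module.Flat R (Localization.AtPrime P) := Module.Flat.trans R B _
  have h4 : Module.Flat (Localization.AtPrime p) (Localization.AtPrime P) :=
    (Module.flat_iff_of_isLocalization (Localization.AtPrime p) p.primeCompl
      (Localization.AtPrime P)).mpr h3
  have h5 : IsLocalHom (algebraMap (Localization.AtPrime p) (Localization.AtPrime P)) :=
    inferInstanceAs (IsLocalHom φ)
  have h6 : Module.FaithfullyFlat (Localization.AtPrime p) (Localization.AtPrime P) :=
    Module.FaithfullyFlat.of_flat_of_isLocalHom
  have h7 : IsScalarTower A (Localization.AtPrime p) (Localization.AtPrime P) := by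
    apply IsScalarTower.of_algebraMap_eq
    intro x
    rw [IsScalarTower.algebraMap_apply A R (Localization.AtPrime p),
      ← IsScalarTower.algebraMap_apply R (Localization.AtPrime p) (Localization.AtPrime P),
      IsScalarTower.algebraMap_apply R B (Localization.AtPrime P),
      ← IsScalarTower.algebraMap_apply A R B, ← IsScalarTower.algebraMap_apply]
  have h8 : Module.Flat A (Localization.AtPrime P) := Module.Flat.trans A B _
  exact flat_of_comp A (Localization.AtPrime p) (Localization.AtPrime P)

/-- If a henselization `B` of `(R, IR)` is flat over `A` then `R` is flat over `A` at all primes over `V(I)`. -/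
theorem flat_atPrime_of_ph {A R B : Type u} [CommRing A] (I : Ideal A) [CommRing R] [CommRing B]
    [Algebra A R] [Algebra R B] [Algebra A B] [IsScalarTower A R B]
    (hB : Hens2.IsPairHenselization R (I.map (algebraMap A R)) B) [Module.Flat A B]
    (p : Ideal R) [p.IsPrime] (hp : I.map (algebraMap A R) ≤ p) :
    Module.Flat A (Localization.AtPrime p) := by
  have h1 := Groth.Agent.Etalg.PairHens2.flat B hB
  have h2 := K145.Faithful.isPrime_map hB p hp
  exact flat_atPrime p (p.map (algebraMap R B)) (K145.Faithful.comap_map_eq hB p hp)

/-- The structure map from an étale neighbourhood to the henselization. -/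
theorem exists_algebra {R : Type u} [CommRing R] {I : Ideal R} {S : Type u} [CommRing S]
    [Algebra R S] (hS : IsNbhd R I S) {B : Type u} [CommRing B] [Algebra R B]
    (hB : Hens2.IsPairHenselization R I B) :
    ∃ (_ : Algebra S B) (_ : IsScalarTower R S B),
      Hens2.IsPairHenselization S (I.map (algebraMap R S)) B := by
  obtain ⟨f⟩ := hS.hequiv.exists_algHom B (I.map (algebraMap R B)) hB.1 le_rfl
  let i1 : Algebra S B := f.toRingHom.toAlgebra
  have i2 : IsScalarTower R S B := IsScalarTower.of_algebraMap_eq fun r => (f.commutes r).symm
  exact ⟨i1, i2, hS.ph_up hB⟩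

/-- Smoothness at the primes over `V(J)` of a flat algebra whose reduction is smooth. -/
theorem isSmoothAt_of_flat {A S : Type u} [CommRing A] [CommRing S] [Algebra A S]
    [Algebra.FinitePresentation A S] [Module.Flat A S] (J : Ideal A)
    [Algebra.FormallySmooth (A ⧸ J) (S ⧸ J.map (algebraMap A S))] (q : Ideal S) [q.IsPrime]
    (hq : J.map (algebraMap A S) ≤ q) : Algebra.IsSmoothAt A q := by
  let p := q.under A
  have hJp : J ≤ p := Ideal.map_le_iff_le_comap.1 hq
  have h0 : ∀ a ∈ J, algebraMap A p.ResidueField a = 0 := fun a ha =>
    Ideal.algebraMap_residueField_eq_zero.2 (hJp ha)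
  let _ : Algebra (A ⧸ J) p.ResidueField :=
    (Ideal.Quotient.lift J (algebraMap A p.ResidueField) h0).toAlgebra
  have t1 : IsScalarTower A (A ⧸ J) p.ResidueField := IsScalarTower.of_algebraMap_eq fun a => rfl
  have h1 : Algebra.FormallySmooth (A ⧸ J) ((A ⧸ J) ⊗[A] S) :=
    Algebra.FormallySmooth.of_equiv (Algebra.TensorProduct.quotIdealMapEquivQuotTensor S J)
  have h2 : Algebra.FormallySmooth p.ResidueField
      (p.ResidueField ⊗[A ⧸ J] ((A ⧸ J) ⊗[A] S)) := inferInstance
  have h3 : Algebra.FormallySmooth p.ResidueField (p.Fiber S) :=
    Algebra.FormallySmooth.of_equiv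
      (Algebra.TensorProduct.cancelBaseChange A (A ⧸ J) p.ResidueField p.ResidueField S)
  exact Algebra.IsSmoothAt.of_formallySmooth_fiber p q

end K145.FlatDesc
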