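import Groth.Agent.Hensel.K145.Van

/-!
Glueing functions on étale covers over a henselian pair: the main lemma `glue`.
-/

set_option autoImplicit false

universe u

open TensorProduct

namespace K145.Glue

open K145.Van Groth.Agent.EtpbcA.OpenEquivAlg Groth.Agent.EtpbcA.OpenEquiv

/-- Faithfully flat descent of elements. -/
theorem exists_of_tmul_eq {R B : Type*} [CommRing R] [CommRing B] [Algebra R B]
    [Module.FaithfullyFlat R B] (x : B) (h : x ⊗ₜ[R] (1 : B) = 1 ⊗ₜ[R] x) :
    ∃ r : R, algebraMap R B r = x := by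
  let D : Submodule R B := LinearMap.range (Algebra.linearMap R B)
  have h1 : (1 : B) ⊗ₜ[R] (D.mkQ x) = 0 := by
    have h2 := congrArg (LinearMap.lTensor B D.mkQ) h.symm
    rw [LinearMap.lTensor_tmul, LinearMap.lTensor_tmul] at h2
    have h3 : D.mkQ (1 : B) = 0 := by
      rw [← LinearMap.mem_ker, Submodule.ker_mkQ]
      exact ⟨1, by simp⟩
    rw [h3, TensorProduct.tmul_zero] at h2
    exact h2
  rw [Module.FaithfullyFlat.one_tmul_eq_zero_iff, ← LinearMap.mem_ker, Submodule.ker_mkQ] at h1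
  exact h1

/-- Connectedness of `V(I)` in absolute integral closures. -/
theorem isPreconnected (A : Type u) [CommRing A] (I : Ideal A) [HenselianRing A I]
    (K : Type u) [Field K] [Algebra A K] :
    IsPreconnected (PrimeSpectrum.zeroLocus
        (I.map (algebraMap A (integralClosure A K)) : Set (integralClosure A K))) := by
  have h1 := Groth.Agent.S0526.result A I (integralClosure A K)
  have h2 := Groth.Agent.S0530.result (integralClosure A K)
    (I.map (algebraMap A (integralClosure A K))) ⊥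
  have h3 : Set.range (PrimeSpectrum.comap (Ideal.Quotient.mk
      ((⊥ : Ideal (integralClosure A K)) ⊔ I.map (algebraMap A (integralClosure A K))))) =
      PrimeSpectrum.zeroLocus
        (I.map (algebraMap A (integralClosure A K)) : Set (integralClosure A K)) := by
    rw [_root_.range_comap_of_surjective _ _ Ideal.Quotient.mk_surjective, Ideal.mk_ker,
      bot_sup_eq]
  rw [← h3]
  exact isPreconnected_range (PrimeSpectrum.continuous_comap _)

/-- Agreement of the two pullbacks of `s` on algebras lying over an open set `U₀` on which the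
equivalence relation is everything. -/
theorem tmul_eq {A : Type u} [CommRing A] {C : Type u} [CommRing C] [Algebra A C] (s : C)
    (U₀ : Set (PrimeSpectrum C))
    (hE : ∀ e : PrimeSpectrum (C ⊗[A] C),
      PrimeSpectrum.comap (algebraMap C (C ⊗[A] C)) e ∈ U₀ →
        PrimeSpectrum.comap (Algebra.TensorProduct.includeRight : C →ₐ[A] C ⊗[A] C).toRingHom e ∈ U₀ →
        VanAt (s ⊗ₜ[A] (1 : C) - (1 : C) ⊗ₜ[A] s) e.asIdeal)
    (D₁ D₂ : Type u) [CommRing D₁] [CommRing D₂] [Algebra A D₁] [Algebra A D₂] [Algebra C D₁]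
    [Algebra C D₂] [IsScalarTower A C D₁] [IsScalarTower A C D₂]
    (h₁ : ∀ Q : PrimeSpectrum D₁, PrimeSpectrum.comap (algebraMap C D₁) Q ∈ U₀)
    (h₂ : ∀ Q : PrimeSpectrum D₂, PrimeSpectrum.comap (algebraMap C D₂) Q ∈ U₀) :
    (algebraMap C D₁ s) ⊗ₜ[A] (1 : D₂) = (1 : D₁) ⊗ₜ[A] (algebraMap C D₂ s) := by
  let m : C ⊗[A] C →ₐ[A] D₁ ⊗[A] D₂ :=
    Algebra.TensorProduct.map (IsScalarTower.toAlgHom A C D₁) (IsScalarTower.toAlgHom A C D₂)
  have hm : ∀ c d, m (c ⊗ₜ d) = (algebraMap C D₁ c) ⊗ₜ (algebraMap C D₂ d) := fun c d => by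
    simp [m]
  rw [← sub_eq_zero]
  have h3 : (algebraMap C D₁ s) ⊗ₜ[A] (1 : D₂) - (1 : D₁) ⊗ₜ[A] (algebraMap C D₂ s) =
      m.toRingHom (s ⊗ₜ[A] (1 : C) - (1 : C) ⊗ₜ[A] s) := by
    change _ = m _
    rw [map_sub, hm, hm, map_one, map_one]
  rw [h3]
  apply eq_zero_of_vanAt
  intro M hM
  have hMp := hM.isPrime
  apply vanAt_map
  let e : PrimeSpectrum (D₁ ⊗[A] D₂) := ⟨M, hMp⟩
  refine hE (PrimeSpectrum.comap m.toRingHom e) ?_ ?_
  · have : PrimeSpectrum.comap (algebraMap C (C ⊗[A] C)) (PrimeSpectrum.comap m.toRingHom e) =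
        PrimeSpectrum.comap (algebraMap C D₁)
          (PrimeSpectrum.comap (algebraMap D₁ (D₁ ⊗[A] D₂)) e) := by
      apply PrimeSpectrum.ext
      ext c
      change m (c ⊗ₜ 1) ∈ M ↔ (algebraMap C D₁ c) ⊗ₜ (1 : D₂) ∈ M
      rw [hm, map_one]
    rw [this]
    exact h₁ _
  · have : PrimeSpectrum.comap (Algebra.TensorProduct.includeRight : C →ₐ[A] C ⊗[A] C).toRingHom
        (PrimeSpectrum.comap m.toRingHom e) =
        PrimeSpectrum.comap (algebraMap C D₂)
          (PrimeSpectrum.comap (Algebra.TensorProduct.includeRight : D₂ →ₐ[A] D₁ ⊗[A] D₂).toRingHom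
            e) := by
      apply PrimeSpectrum.ext
      ext c
      change m (1 ⊗ₜ c) ∈ M ↔ (1 : D₁) ⊗ₜ (algebraMap C D₂ c) ∈ M
      rw [hm, map_one]
    rw [this]
    exact h₂ _

/-- Glueing along an étale cover of `V(I)`. -/
theorem glue {A : Type u} [CommRing A] (I : Ideal A) [HenselianRing A I] {C : Type u} [CommRing C]
    [Algebra A C] [Algebra.Etale A C] (s : C)
    (hsurj : ∀ p : PrimeSpectrum A, I ≤ p.asIdeal →
      ∃ P : PrimeSpectrum C, PrimeSpectrum.comap (algebraMap A C) P = p)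
    (hZ : ∀ e : PrimeSpectrum (C ⊗[A] C),
      I ≤ (PrimeSpectrum.comap (algebraMap A (C ⊗[A] C)) e).asIdeal →
      VanAt (s ⊗ₜ[A] (1 : C) - (1 : C) ⊗ₜ[A] s) e.asIdeal) :
    ∃ x : A, ∀ P : PrimeSpectrum C, I ≤ (PrimeSpectrum.comap (algebraMap A C) P).asIdeal →
      VanAt (s - algebraMap A C x) P.asIdeal := by
  classical
  have hI : ∀ m : Ideal A, m.IsMaximal → I ≤ m := fun m hm =>
    HenselianRing.jac.trans (sInf_le ⟨bot_le, hm⟩)
  obtain ⟨U₀, hU₀, hcov, hZU, hE⟩ := exists_open (C := C) I (fun K _ _ _ => isPreconnected A I K)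
    hI hsurj _ (isOpen_vanAt (s ⊗ₜ[A] (1 : C) - (1 : C) ⊗ₜ[A] s)) (isEquivRel s) hZ
  -- basic opens inside `U₀`
  have hbas : ∀ P : PrimeSpectrum C, P ∈ U₀ → ∃ c : C, c ∉ P.asIdeal ∧
      (PrimeSpectrum.basicOpen c : Set (PrimeSpectrum C)) ⊆ U₀ := by
    intro P hP
    obtain ⟨_, ⟨c, rfl⟩, hc, hcU⟩ :=
      PrimeSpectrum.isTopologicalBasis_basic_opens.exists_subset_of_mem_open hP hU₀
    exact ⟨c, hc, hcU⟩
  have hex : ∀ p : PrimeSpectrum A, ∃ c : C, (∃ P : PrimeSpectrum C, c ∉ P.asIdeal ∧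
      PrimeSpectrum.comap (algebraMap A C) P = p) ∧
      (PrimeSpectrum.basicOpen c : Set (PrimeSpectrum C)) ⊆ U₀ := by
    intro p
    obtain ⟨P, hP, hPp⟩ := hcov p
    obtain ⟨c, hc, hcU⟩ := hbas P hP
    exact ⟨c, ⟨P, hc, hPp⟩, hcU⟩
  choose c hc hcU using hex
  have hopen : ∀ p : PrimeSpectrum A, IsOpen (PrimeSpectrum.comap (algebraMap A C) ''
      (PrimeSpectrum.basicOpen (c p) : Set (PrimeSpectrum C))) := fun p =>
    PrimeSpectrum.isOpenMap_comap_of_hasGoingDown_of_finitePresentation _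
      (PrimeSpectrum.basicOpen (c p)).2
  obtain ⟨t, ht⟩ := isCompact_univ.elim_finite_subcover _ hopen (fun p _ => by
    obtain ⟨P, hP, hPp⟩ := hc p
    exact Set.mem_iUnion.2 ⟨p, P, hP, hPp⟩)
  let C' : Type u := ∀ k : t, Localization.Away (c k.1)
  -- every prime of `C'` maps into `U₀`
  have hC'U : ∀ Q : PrimeSpectrum C', PrimeSpectrum.comap (algebraMap C C') Q ∈ U₀ := by
    intro Q
    by_contra hcon
    have hall : ∀ k : t, algebraMap C C' (c k.1) ∈ Q.asIdeal := by
      intro k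
      by_contra hk
      exact hcon (hcU k.1 hk)
    have h1 : (1 : C') ∈ Q.asIdeal := by
      have h2 : (1 : C') = ∑ k : t, Pi.single k (IsLocalization.Away.invSelf (c k.1)) *
          algebraMap C C' (c k.1) := by
        funext j
        rw [Finset.sum_apply, Finset.sum_eq_single j]
        · rw [Pi.mul_apply, Pi.single_eq_same, Pi.algebraMap_apply, Pi.one_apply, mul_comm]
          exact (IsLocalization.Away.mul_invSelf (c j.1)).symm
        · intro k _ hk
          rw [Pi.mul_apply, Pi.single_eq_of_ne hk.symm, zero_mul]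
        · intro h; exact absurd (Finset.mem_univ j) h
      rw [h2]
      exact sum_mem fun k _ => Ideal.mul_mem_left _ _ (hall k)
    exact Q.2.ne_top ((Ideal.eq_top_iff_one _).2 h1)
  have het : ∀ k : t, Algebra.Etale A (Localization.Away (c k.1)) := fun k =>
    Algebra.Etale.comp A C (Localization.Away (c k.1))
  have hetC' : Algebra.Etale A C' := inferInstance
  have hflat : Module.Flat A C' := inferInstance
  have htow : IsScalarTower A C C' := inferInstance
  have hsurj' : Function.Surjective (PrimeSpectrum.comap (algebraMap A C')) := by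
    intro p
    have hp := ht (Set.mem_univ p)
    simp only [Set.mem_iUnion] at hp
    obtain ⟨k, hk, P, hP, hPp⟩ := hp
    obtain ⟨Q, hQ⟩ : P ∈ Set.range (PrimeSpectrum.comap (algebraMap C (Localization.Away (c k)))) := by
      rw [PrimeSpectrum.localization_away_comap_range (Localization.Away (c k)) (c k)]
      exact hP
    refine ⟨PrimeSpectrum.comap (Pi.evalRingHom (fun k : t => Localization.Away (c k.1)) ⟨k, hk⟩) Q, ?_⟩
    rw [← hPp, ← hQ]
    apply PrimeSpectrum.ext
    ext a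
    change algebraMap A (Localization.Away (c k)) a ∈ Q.asIdeal ↔
      algebraMap C (Localization.Away (c k)) (algebraMap A C a) ∈ Q.asIdeal
    rw [← IsScalarTower.algebraMap_apply]
  have hff : Module.FaithfullyFlat A C' := Module.FaithfullyFlat.of_comap_surjective hsurj'
  have h1 := tmul_eq s U₀ hE C' C' hC'U hC'U
  obtain ⟨x, hx⟩ := exists_of_tmul_eq _ h1
  refine ⟨x, fun P hP => ?_⟩
  obtain ⟨d, hd, hdU⟩ := hbas P (hZU P hP)
  have hDU : ∀ Q : PrimeSpectrum (Localization.Away d),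
      PrimeSpectrum.comap (algebraMap C (Localization.Away d)) Q ∈ U₀ := by
    intro Q
    apply hdU
    have : PrimeSpectrum.comap (algebraMap C (Localization.Away d)) Q ∈
        Set.range (PrimeSpectrum.comap (algebraMap C (Localization.Away d))) := ⟨Q, rfl⟩
    rw [PrimeSpectrum.localization_away_comap_range (Localization.Away d) d] at this
    exact this
  have h2 := tmul_eq s U₀ hE C' (Localization.Away d) hC'U hDU
  rw [← hx] at h2
  have h3 : (1 : C') ⊗ₜ[A] (algebraMap C (Localization.Away d) (s - algebraMap A C x)) = 0 := by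
    rw [map_sub, tmul_sub, ← h2, ← IsScalarTower.algebraMap_apply,
      Algebra.algebraMap_eq_smul_one, Algebra.algebraMap_eq_smul_one, TensorProduct.smul_tmul,
      sub_self]
  rw [Module.FaithfullyFlat.one_tmul_eq_zero_iff] at h3
  rw [IsLocalization.map_eq_zero_iff (Submonoid.powers d)] at h3
  obtain ⟨⟨_, n, rfl⟩, hn⟩ := h3
  exact ⟨d ^ n, fun h => hd (P.2.mem_of_pow_mem n h), hn⟩

end K145.Glue
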