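import Groth.Agent.Hensel.K145.Away
import Groth.Agent.Hensel.K145.FPColim

/-!
A fixed henselization `HLoc R J u` of the pair `(R_u, J R_u)` and its functoriality; systems of henselian pairs and
their localizations.
-/

set_option autoImplicit false

universe u

namespace K145.HAway

open K145.Univ K145.Nbhd K145.Away K145.Colim K145.FPColim Groth.Agent.Etalg.PtEtSystem

section Def

variable (R : Type u) [CommRing R] (J : Ideal R) (u : R)

/-- A henselization of `(R_u, J R_u)`. -/
def HLoc : Type u := Hens (Localization.Away u)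
  (Localization.Away u ⧸ J.map (algebraMap R (Localization.Away u)))

noncomputable instance : CommRing (HLoc R J u) :=
  inferInstanceAs (CommRing (Hens (Localization.Away u)
    (Localization.Away u ⧸ J.map (algebraMap R (Localization.Away u)))))

noncomputable instance algAway : Algebra (Localization.Away u) (HLoc R J u) :=
  inferInstanceAs (Algebra (Localization.Away u) (Hens (Localization.Away u)
    (Localization.Away u ⧸ J.map (algebraMap R (Localization.Away u)))))

/-- the canonical map -/
noncomputable def of : R →+* HLoc R J u :=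
  (algebraMap (Localization.Away u) (HLoc R J u)).comp (algebraMap R (Localization.Away u))

noncomputable instance alg (A : Type u) [CommRing A] [Algebra A R] : Algebra A (HLoc R J u) :=
  ((of R J u).comp (algebraMap A R)).toAlgebra

theorem algebraMap_eq : algebraMap R (HLoc R J u) = of R J u := rfl

theorem algebraMap_eq' (A : Type u) [CommRing A] [Algebra A R] :
    algebraMap A (HLoc R J u) = (of R J u).comp (algebraMap A R) := rfl

instance tower (A : Type u) [CommRing A] [Algebra A R] : IsScalarTower A R (HLoc R J u) :=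
  IsScalarTower.of_algebraMap_eq fun _ => rfl

instance towerAway : IsScalarTower R (Localization.Away u) (HLoc R J u) :=
  IsScalarTower.of_algebraMap_eq fun _ => rfl

theorem ph_away : Hens2.IsPairHenselization (Localization.Away u)
    (J.map (algebraMap R (Localization.Away u))) (HLoc R J u) :=
  Groth.Agent.Etalg.PairHens.isPairHenselization_Hens (Localization.Away u)
    (J.map (algebraMap R (Localization.Away u)))

theorem lph : LPH J u (HLoc R J u) := LPH.of_ph (ph_away R J u)

end Def

section AlgHom

variable {A : Type u} [CommRing A] {I : Ideal A} {B : Type u} [CommRing B] [Algebra A B] {f : B}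
  {H : Type u} [CommRing H] [Algebra B H] [Algebra A H] [IsScalarTower A B H]

/-- extension of algebra maps to henselian pairs -/
theorem exists_algHom (h : LEq (I.map (algebraMap A B)) f H) {D : Type u} [CommRing D]
    [Algebra A D] (hD : HenselianRing D (I.map (algebraMap A D))) (g : B →ₐ[A] D)
    (hg : IsUnit (g f)) : ∃ k : H →ₐ[A] D, ∀ x, k (algebraMap B H x) = g x := by
  obtain ⟨k, hk, -⟩ := h.ext D (I.map (algebraMap A D)) g.toRingHom hD (by
    rw [Ideal.map_map, show g.toRingHom.comp (algebraMap A B) = algebraMap A D from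
      g.comp_algebraMap]) hg
  have hk' : ∀ x, k (algebraMap B H x) = g x := fun x => congrArg (fun f : B →+* D => f x) hk
  refine ⟨{ k with commutes' := fun r => ?_ }, hk'⟩
  change k (algebraMap A H r) = _
  rw [IsScalarTower.algebraMap_apply A B H, hk', AlgHom.commutes]

theorem algHom_ext (h : LEq (I.map (algebraMap A B)) f H) {D : Type u} [CommRing D]
    [Algebra A D] (hD : HenselianRing D (I.map (algebraMap A D))) (k₁ k₂ : H →ₐ[A] D)
    (hk : ∀ x, k₁ (algebraMap B H x) = k₂ (algebraMap B H x)) : k₁ = k₂ := by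
  have : k₁.toRingHom = k₂.toRingHom := by
    refine h.ringHom_ext _ hD (RingHom.ext fun x => hk x) ?_
    rw [Ideal.map_map, RingHom.comp_assoc, ← IsScalarTower.algebraMap_eq A B H,
      show k₂.toRingHom.comp (algebraMap A H) = algebraMap A D from k₂.comp_algebraMap]
  exact AlgHom.ext fun x => congrArg (fun f : H →+* D => f x) this

end AlgHom

/-- A directed system of henselian pairs over `(A, I)`, with a colimit. -/
structure HSys (A : Type u) [CommRing A] (I : Ideal A) (κ : Type u) [Preorder κ] where
  obj : κ → Type u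
  [ring : ∀ a, CommRing (obj a)]
  [alg : ∀ a, Algebra A (obj a)]
  t : ∀ a b, a ≤ b → (obj a →ₐ[A] obj b)
  t_self : ∀ a x, t a a le_rfl x = x
  hens : ∀ a, HenselianRing (obj a) (I.map (algebraMap A (obj a)))
  lim : Type u
  [limRing : CommRing lim]
  [limAlg : Algebra A lim]
  ι : ∀ a, obj a →ₐ[A] lim
  isColim : IsColim obj (fun a b h => (t a b h).toRingHom) lim (fun a => (ι a).toRingHom)

attribute [instance] HSys.ring HSys.alg HSys.limRing HSys.limAlg

namespace HSys

variable {A : Type u} [CommRing A] {I : Ideal A} {κ : Type u} [Preorder κ]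

theorem t_trans (S : HSys A I κ) (a b c : κ) (h : a ≤ b) (h' : b ≤ c) (x : S.obj a) :
    S.t b c h' (S.t a b h x) = S.t a c (h.trans h') x := S.isColim.trans a b c h h' x

theorem compat (S : HSys A I κ) (a b : κ) (h : a ≤ b) (x : S.obj a) :
    S.ι b (S.t a b h x) = S.ι a x := S.isColim.compat a b h x

theorem surj (S : HSys A I κ) (x : S.lim) : ∃ (a : κ) (y : S.obj a), S.ι a y = x :=
  S.isColim.surj x

theorem eq (S : HSys A I κ) {a : κ} {x y : S.obj a} (h : S.ι a x = S.ι a y) :
    ∃ (b : κ) (h : a ≤ b), S.t a b h x = S.t a b h y := S.isColim.eq h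

theorem comm (S : HSys A I κ) (a b : κ) (h : a ≤ b) :
    (S.t a b h).toRingHom.comp (algebraMap A (S.obj a)) = algebraMap A (S.obj b) :=
  (S.t a b h).comp_algebraMap

theorem ι_comm (S : HSys A I κ) (a : κ) :
    (S.ι a).toRingHom.comp (algebraMap A (S.obj a)) = algebraMap A S.lim :=
  (S.ι a).comp_algebraMap

variable [IsDirectedOrder κ] [Nonempty κ]

theorem lim_hens (S : HSys A I κ) : HenselianRing S.lim (I.map (algebraMap A S.lim)) :=
  S.isColim.henselianRing I S.comm S.ι_comm S.hens

theorem exists_finset_ge (S : HSys A I κ) (s : Finset S.lim) (a₀ : κ) :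
    ∃ a : κ, a₀ ≤ a ∧ ∀ x ∈ s, ∃ y : S.obj a, S.ι a y = x := S.isColim.exists_finset_ge s a₀

/-- The limit property of henselizations of finitely presented algebras: existence. -/
theorem exists_lift (S : HSys A I κ) (R₀ : Type u) [CommRing R₀] [Algebra A R₀]
    [Algebra.FinitePresentation A R₀] (B : Type u) [CommRing B] [Algebra R₀ B] [Algebra A B]
    [IsScalarTower A R₀ B] (hB : Hens2.IsPairHenselization R₀ (I.map (algebraMap A R₀)) B)
    (χ : B →ₐ[A] S.lim) (a₀ : κ) : ∃ (a : κ) (_ : a₀ ≤ a) (φ : B →ₐ[A] S.obj a),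
      ∀ x, S.ι a (φ x) = χ x := by
  have hL := S.lim_hens
  obtain ⟨a, ha, φ, hφ⟩ := S.isColim.exists_algHom S.comm S.ι_comm R₀
    (χ.comp (IsScalarTower.toAlgHom A R₀ B)) a₀
  obtain ⟨g, hg, -⟩ := hB.2 (S.obj a) (I.map (algebraMap A (S.obj a))) φ.toRingHom (S.hens a) (by
    rw [Ideal.map_map, show φ.toRingHom.comp (algebraMap A R₀) = algebraMap A (S.obj a) from
      φ.comp_algebraMap])
  have hg' : ∀ x : R₀, g (algebraMap R₀ B x) = φ x := fun x =>
    congrArg (fun f : R₀ →+* S.obj a => f x) hg
  let g' : B →ₐ[A] S.obj a :=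
    { g with
      commutes' := fun r => by
        change g (algebraMap A B r) = _
        rw [IsScalarTower.algebraMap_apply A R₀ B, hg', AlgHom.commutes] }
  refine ⟨a, ha, g', fun x => ?_⟩
  have key : ((S.ι a).comp g').toRingHom = χ.toRingHom := by
    refine K145.Univ.HEquiv.ringHom_ext hB.2 _ hL ?_ ?_
    · ext x
      change S.ι a (g (algebraMap R₀ B x)) = χ (algebraMap R₀ B x)
      rw [hg']
      exact hφ x
    · rw [Ideal.map_map, RingHom.comp_assoc, ← IsScalarTower.algebraMap_eq,
        show χ.toRingHom.comp (algebraMap A B) = algebraMap A S.lim from χ.comp_algebraMap]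
  exact congrArg (fun f : B →+* S.lim => f x) key

omit [Nonempty κ] in
/-- The limit property of henselizations of finitely presented algebras: uniqueness. -/
theorem eventually_eq (S : HSys A I κ) (R₀ : Type u) [CommRing R₀] [Algebra A R₀]
    [Algebra.FinitePresentation A R₀] (B : Type u) [CommRing B] [Algebra R₀ B] [Algebra A B]
    [IsScalarTower A R₀ B] (hB : Hens2.IsPairHenselization R₀ (I.map (algebraMap A R₀)) B)
    {a : κ} (φ ψ : B →ₐ[A] S.obj a) (h : ∀ x, S.ι a (φ x) = S.ι a (ψ x)) :
    ∃ (b : κ) (hb : a ≤ b), ∀ x, S.t a b hb (φ x) = S.t a b hb (ψ x) := by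
  obtain ⟨b, hb, hb'⟩ := S.isColim.algHom_eq R₀ S.comm (φ.comp (IsScalarTower.toAlgHom A R₀ B))
    (ψ.comp (IsScalarTower.toAlgHom A R₀ B)) (fun x => h _)
  refine ⟨b, hb, fun x => ?_⟩
  have key : ((S.t a b hb).comp φ).toRingHom = ((S.t a b hb).comp ψ).toRingHom := by
    refine K145.Univ.HEquiv.ringHom_ext hB.2 _ (S.hens b) ?_ ?_
    · ext x
      exact hb' x
    · rw [Ideal.map_map, RingHom.comp_assoc, ← IsScalarTower.algebraMap_eq,
        show ((S.t a b hb).comp ψ).toRingHom.comp (algebraMap A B) = algebraMap A (S.obj b) from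
          ((S.t a b hb).comp ψ).comp_algebraMap]
  exact congrArg (fun f : B →+* S.obj b => f x) key

end HSys

end K145.HAway
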