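import Groth.Agent.Hensel.K145.Trunc

/-!
Infinitesimal lifting for `I`-power torsion test algebras and formal smoothness of the truncations.
-/

set_option autoImplicit false

universe u

open TensorProduct

namespace K145.HForm

section

variable {A : Type u} [CommRing A]

theorem ker_mk (E : Type u) [CommRing E] [Algebra A E] (K : Ideal E) :
    RingHom.ker (Ideal.Quotient.mkₐ A K) = K := by
  ext x; exact Ideal.Quotient.eq_zero_iff_mem

/-- Algebras killed by `J` are algebras over `A/J`. -/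
@[reducible] noncomputable def algOfMapEqBot (J : Ideal A) (E : Type u) [CommRing E] [Algebra A E]
    (h : J.map (algebraMap A E) = ⊥) : Algebra (A ⧸ J) E :=
  (Ideal.Quotient.lift J (algebraMap A E) (fun a ha => by
    have := Ideal.mem_map_of_mem (algebraMap A E) ha
    rw [h] at this
    exact this)).toAlgebra

/-- A map to an algebra killed by `J` factors through the truncation. -/
theorem exists_factor {J : Ideal A} {B E : Type u} [CommRing B] [Algebra A B] [CommRing E]
    [Algebra A E] [Algebra (A ⧸ J) E] [IsScalarTower A (A ⧸ J) E]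
    (u : B →ₐ[A] E) : ∃ u' : (B ⧸ J.map (algebraMap A B)) →ₐ[A ⧸ J] E,
      ∀ b, u' (Ideal.Quotient.mk _ b) = u b := by
  have h0 : ∀ a ∈ J, algebraMap A E a = 0 := by
    intro a ha
    rw [IsScalarTower.algebraMap_apply A (A ⧸ J) E]
    have : algebraMap A (A ⧸ J) a = 0 := Ideal.Quotient.eq_zero_iff_mem.2 ha
    rw [this, map_zero]
  have hk : ∀ b ∈ J.map (algebraMap A B), u b = 0 := by
    intro b hb
    have : J.map (algebraMap A B) ≤ RingHom.ker u.toRingHom := by
      rw [Ideal.map_le_iff_le_comap]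
      intro a ha
      change u (algebraMap A B a) = 0
      rw [AlgHom.commutes, h0 a ha]
    exact this hb
  refine ⟨{ Ideal.Quotient.lift _ u.toRingHom hk with commutes' := fun x => ?_ }, fun b => rfl⟩
  obtain ⟨a, rfl⟩ := Ideal.Quotient.mk_surjective x
  change u (algebraMap A B a) = algebraMap (A ⧸ J) E (algebraMap A (A ⧸ J) a)
  rw [AlgHom.commutes, ← IsScalarTower.algebraMap_apply]

theorem exists_lift {J : Ideal A} {B : Type u} [CommRing B] [Algebra A B]
    [Algebra.FormallySmooth (A ⧸ J) (B ⧸ J.map (algebraMap A B))] {E C : Type u} [CommRing E]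
    [CommRing C] [Algebra A E] [Algebra A C] (hE : J.map (algebraMap A E) = ⊥)
    (hC : J.map (algebraMap A C) = ⊥) (p : E →ₐ[A] C) (hp : Function.Surjective p)
    (hk : IsNilpotent (RingHom.ker p)) (u : B →ₐ[A] C) : ∃ v : B →ₐ[A] E, p.comp v = u := by
  let _ := algOfMapEqBot J E hE
  let _ := algOfMapEqBot J C hC
  have t1 : IsScalarTower A (A ⧸ J) E := IsScalarTower.of_algebraMap_eq fun a => rfl
  have t2 : IsScalarTower A (A ⧸ J) C := IsScalarTower.of_algebraMap_eq fun a => rfl
  obtain ⟨u', hu'⟩ := exists_factor (J := J) u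
  let p' : E →ₐ[A ⧸ J] C :=
    { p with
      commutes' := fun x => by
        obtain ⟨a, rfl⟩ := Ideal.Quotient.mk_surjective x
        exact p.commutes a }
  let v' := Algebra.FormallySmooth.liftOfSurjective u' p' hp hk
  have hv' : ∀ x, p' (v' x) = u' x := fun x =>
    Algebra.FormallySmooth.liftOfSurjective_apply u' p' hp hk x
  refine ⟨(v'.restrictScalars A).comp (Ideal.Quotient.mkₐ A _), AlgHom.ext fun b => ?_⟩
  exact (hv' _).trans (hu' b)

theorem lift_unique {J : Ideal A} {B : Type u} [CommRing B] [Algebra A B]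
    [Algebra.FormallyUnramified (A ⧸ J) (B ⧸ J.map (algebraMap A B))] {E C : Type u} [CommRing E]
    [CommRing C] [Algebra A E] [Algebra A C] (hE : J.map (algebraMap A E) = ⊥)
    (hC : J.map (algebraMap A C) = ⊥) (p : E →ₐ[A] C)
    (hk : IsNilpotent (RingHom.ker p)) (v w : B →ₐ[A] E) (h : p.comp v = p.comp w) : v = w := by
  let _ := algOfMapEqBot J E hE
  let _ := algOfMapEqBot J C hC
  have t1 : IsScalarTower A (A ⧸ J) E := IsScalarTower.of_algebraMap_eq fun a => rfl
  have t2 : IsScalarTower A (A ⧸ J) C := IsScalarTower.of_algebraMap_eq fun a => rfl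
  obtain ⟨v', hv'⟩ := exists_factor (J := J) v
  obtain ⟨w', hw'⟩ := exists_factor (J := J) w
  let p' : E →ₐ[A ⧸ J] C :=
    { p with
      commutes' := fun x => by
        obtain ⟨a, rfl⟩ := Ideal.Quotient.mk_surjective x
        exact p.commutes a }
  have h1 : v' = w' := by
    refine Algebra.FormallyUnramified.lift_unique' p' hk v' w' ?_
    refine AlgHom.ext fun x => ?_
    obtain ⟨b, rfl⟩ := Ideal.Quotient.mk_surjective x
    change p (v' (Ideal.Quotient.mk _ b)) = p (w' (Ideal.Quotient.mk _ b))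
    rw [hv', hw']
    exact congrArg (fun k : B →ₐ[A] C => k b) h
  refine AlgHom.ext fun b => ?_
  rw [← hv', ← hw', h1]

theorem formallySmooth_of_lift {J : Ideal A} {B : Type u} [CommRing B] [Algebra A B]
    (H : ∀ (E C : Type u) [CommRing E] [CommRing C] [Algebra A E] [Algebra A C],
        J.map (algebraMap A E) = ⊥ → J.map (algebraMap A C) = ⊥ →
        ∀ (p : E →ₐ[A] C), Function.Surjective p → (∃ M : ℕ, 1 ≤ M ∧ RingHom.ker p ^ M = ⊥) →
        ∀ u : B →ₐ[A] C, ∃ v : B →ₐ[A] E, p.comp v = u) :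
    Algebra.FormallySmooth (A ⧸ J) (B ⧸ J.map (algebraMap A B)) := by
  apply Algebra.FormallySmooth.of_comp_surjective
  intro E _ _ K hK f
  let _ : Algebra A E := ((algebraMap (A ⧸ J) E).comp (algebraMap A (A ⧸ J))).toAlgebra
  have t1 : IsScalarTower A (A ⧸ J) E := IsScalarTower.of_algebraMap_eq fun a => rfl
  have h0 : ∀ (F : Type u) [CommRing F] [Algebra A F] [Algebra (A ⧸ J) F]
      [IsScalarTower A (A ⧸ J) F], J.map (algebraMap A F) = ⊥ := by
    intro F _ _ _ _
    rw [IsScalarTower.algebraMap_eq A (A ⧸ J) F, ← Ideal.map_map]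
    have : J.map (algebraMap A (A ⧸ J)) = ⊥ := Ideal.map_quotient_self J
    rw [this, Ideal.map_bot]
  obtain ⟨v, hv⟩ := H E (E ⧸ K) (h0 E) (h0 (E ⧸ K)) (Ideal.Quotient.mkₐ A K)
    Ideal.Quotient.mk_surjective ⟨2, by norm_num, by rw [ker_mk]; exact hK⟩
    ((f.restrictScalars A).comp (Ideal.Quotient.mkₐ A _))
  obtain ⟨v', hv'⟩ := exists_factor (J := J) v
  refine ⟨v', AlgHom.ext fun x => ?_⟩
  obtain ⟨b, rfl⟩ := Ideal.Quotient.mk_surjective x
  change Ideal.Quotient.mk K (v' (Ideal.Quotient.mk _ b)) = _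
  rw [hv']
  exact congrArg (fun k : B →ₐ[A] (E ⧸ K) => k b) hv

theorem formallyUnramified_of_unique {J : Ideal A} {B : Type u} [CommRing B] [Algebra A B]
    (H : ∀ (E C : Type u) [CommRing E] [CommRing C] [Algebra A E] [Algebra A C],
        J.map (algebraMap A E) = ⊥ → J.map (algebraMap A C) = ⊥ →
        ∀ (p : E →ₐ[A] C), Function.Surjective p → (∃ M : ℕ, 1 ≤ M ∧ RingHom.ker p ^ M = ⊥) →
        ∀ v w : B →ₐ[A] E, p.comp v = p.comp w → v = w) :
    Algebra.FormallyUnramified (A ⧸ J) (B ⧸ J.map (algebraMap A B)) := by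
  apply Algebra.FormallyUnramified.iff_comp_injective_of_small.{u}.mpr
  intro E _ _ K hK v' w' hvw
  let _ : Algebra A E := ((algebraMap (A ⧸ J) E).comp (algebraMap A (A ⧸ J))).toAlgebra
  have t1 : IsScalarTower A (A ⧸ J) E := IsScalarTower.of_algebraMap_eq fun a => rfl
  have h0 : ∀ (F : Type u) [CommRing F] [Algebra A F] [Algebra (A ⧸ J) F]
      [IsScalarTower A (A ⧸ J) F], J.map (algebraMap A F) = ⊥ := by
    intro F _ _ _ _
    rw [IsScalarTower.algebraMap_eq A (A ⧸ J) F, ← Ideal.map_map]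
    have : J.map (algebraMap A (A ⧸ J)) = ⊥ := Ideal.map_quotient_self J
    rw [this, Ideal.map_bot]
  have h1 := H E (E ⧸ K) (h0 E) (h0 (E ⧸ K)) (Ideal.Quotient.mkₐ A K)
    Ideal.Quotient.mk_surjective ⟨2, by norm_num, by rw [ker_mk]; exact hK⟩
    ((v'.restrictScalars A).comp (Ideal.Quotient.mkₐ A _))
    ((w'.restrictScalars A).comp (Ideal.Quotient.mkₐ A _)) (AlgHom.ext fun b => by
      exact congrArg (fun k : (B ⧸ J.map (algebraMap A B)) →ₐ[A ⧸ J] (E ⧸ K) =>
        k (Ideal.Quotient.mk _ b)) hvw)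
  refine AlgHom.ext fun x => ?_
  obtain ⟨b, rfl⟩ := Ideal.Quotient.mk_surjective x
  exact congrArg (fun k : B →ₐ[A] E => k b) h1

end

end K145.HForm
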