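import Groth.Agent.Hensel.K145.Away
import Groth.Agent.Hensel.K145.Glue

/-!
The sheaf condition for henselizations along a cover of `V(I)` by basic opens.
-/

set_option autoImplicit false

universe u

open TensorProduct

namespace K145.Sheaf

open K145.Univ K145.Nbhd K145.Van K145.Away

theorem vanAt_of_ph {R : Type u} [CommRing R] {I : Ideal R} {B : Type u} [CommRing B] [Algebra R B]
    (h : Hens2.IsPairHenselization R I B) (x : R) (hx : algebraMap R B x = 0) (P : Ideal R)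
    (hP : P ≠ ⊤) (hI : I ≤ P) : VanAt x P := by
  obtain ⟨a, ha, hax⟩ := exists_mul_eq_zero h x hx
  refine ⟨a, fun h1 => hP ((Ideal.eq_top_iff_one _).2 ?_), hax⟩
  have := sub_mem h1 (hI ha)
  rwa [sub_sub_cancel] at this

theorem exists_notMem_of_cover {A : Type*} [CommRing A] {I : Ideal A} {ι : Type*} {g : ι → A}
    (hcov : I ⊔ Ideal.span (Set.range g) = ⊤) {p : Ideal A} (hp : p ≠ ⊤) (hI : I ≤ p) :
    ∃ i, g i ∉ p := by
  by_contra hcon
  push Not at hcon
  apply hp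
  rw [eq_top_iff, ← hcov, sup_le_iff, Ideal.span_le]
  refine ⟨hI, ?_⟩
  rintro _ ⟨i, rfl⟩
  exact hcon i

/-- Injectivity. -/
theorem eq_zero {A : Type u} [CommRing A] (I : Ideal A) [HenselianRing A I] {ι : Type*} (g : ι → A)
    (hcov : I ⊔ Ideal.span (Set.range g) = ⊤) (Hi : ι → Type u) [∀ i, CommRing (Hi i)]
    [∀ i, Algebra A (Hi i)] (h : ∀ i, LPH I (g i) (Hi i)) (x : A)
    (hx : ∀ i, algebraMap A (Hi i) x = 0) : x = 0 := by
  apply eq_zero_of_vanAt
  intro M hM
  have hI : I ≤ M := HenselianRing.jac.trans (sInf_le ⟨bot_le, hM⟩)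
  obtain ⟨i, hi⟩ := exists_notMem_of_cover hcov hM.ne_top hI
  obtain ⟨P, hP⟩ := (h i).leq.exists_prime ⟨M, hM.isPrime⟩ hI hi
  have := (h i).flat
  have h1 : VanAt (algebraMap A (Hi i) x) P.asIdeal := by
    rw [hx i]
    exact vanAt_zero P.2.ne_top
  have h2 := vanAt_of_flat h1
  have h3 : P.asIdeal.comap (algebraMap A (Hi i)) = M := congrArg PrimeSpectrum.asIdeal hP
  rwa [h3] at h2

section Pi

variable {A : Type u} [CommRing A] {ι : Type u} [Finite ι] (C : ι → Type u)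
  [∀ i, CommRing (C i)] [∀ i, Algebra A (C i)]

open Classical in
theorem exists_single_notMem (e : Ideal ((∀ i, C i) ⊗[A] (∀ i, C i))) (he : e ≠ ⊤) :
    ∃ i j, (Pi.single i (1 : C i) : ∀ i, C i) ⊗ₜ[A] (Pi.single j (1 : C j) : ∀ i, C i) ∉ e := by
  have := Fintype.ofFinite ι
  by_contra hcon
  push Not at hcon
  apply he
  rw [Ideal.eq_top_iff_one]
  have h1 : (1 : ∀ i, C i) = ∑ i, Pi.single i (1 : C i) :=
    (Finset.univ_sum_single (1 : ∀ i, C i)).symm
  have h2 : (1 : (∀ i, C i) ⊗[A] (∀ i, C i)) = ∑ i, ∑ j,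
      (Pi.single i (1 : C i) : ∀ i, C i) ⊗ₜ[A] (Pi.single j (1 : C j) : ∀ i, C i) := by
    rw [Algebra.TensorProduct.one_def]
    conv_lhs => rw [h1]
    rw [TensorProduct.sum_tmul]
    exact Finset.sum_congr rfl fun i _ => TensorProduct.tmul_sum _ _ _
  rw [h2]
  exact sum_mem fun i _ => sum_mem fun j _ => hcon i j

/-- Vanishing at a prime of `C ⊗ C` can be tested on a factor `C i ⊗ C j`. -/
theorem vanAt_pi (I : Ideal A) (z : (∀ i, C i) ⊗[A] (∀ i, C i))
    (hz : ∀ i j, ∃ a : C i ⊗[A] C j, a - 1 ∈ I.map (algebraMap A (C i ⊗[A] C j)) ∧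
      a * Algebra.TensorProduct.map (Pi.evalAlgHom A C i) (Pi.evalAlgHom A C j) z = 0)
    (e : Ideal ((∀ i, C i) ⊗[A] (∀ i, C i))) [e.IsPrime]
    (hI : I.map (algebraMap A ((∀ i, C i) ⊗[A] (∀ i, C i))) ≤ e) : VanAt z e := by
  classical
  obtain ⟨i, j, hij⟩ := exists_single_notMem C e ‹e.IsPrime›.ne_top
  obtain ⟨a, ha, haz⟩ := hz i j
  let π : (∀ i, C i) ⊗[A] (∀ i, C i) →ₐ[A] C i ⊗[A] C j :=
    Algebra.TensorProduct.map (Pi.evalAlgHom A C i) (Pi.evalAlgHom A C j)
  have hπ : Function.Surjective π := by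
    apply TensorProduct.map_surjective
    · exact Function.surjective_eval i
    · exact Function.surjective_eval j
  let θ : C i ⊗[A] C j →ₗ[A] (∀ i, C i) ⊗[A] (∀ i, C i) :=
    TensorProduct.map (LinearMap.single A C i) (LinearMap.single A C j)
  have hθ : ∀ w, θ (π w) =
      ((Pi.single i (1 : C i) : ∀ i, C i) ⊗ₜ[A] (Pi.single j (1 : C j) : ∀ i, C i)) * w := by
    intro w
    induction w with
    | zero => simp
    | add x y hx hy => rw [map_add, map_add, hx, hy, mul_add]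
    | tmul x y =>
      have h1 : π (x ⊗ₜ y) = x i ⊗ₜ y j := rfl
      have h2 : θ (x i ⊗ₜ y j) = (Pi.single i (x i) : ∀ i, C i) ⊗ₜ (Pi.single j (y j) : ∀ i, C i) := rfl
      rw [h1, h2, Algebra.TensorProduct.tmul_mul_tmul]
      congr 1
      · funext k
        rw [Pi.mul_apply]
        by_cases hk : k = i
        · subst hk; simp
        · rw [Pi.single_eq_of_ne hk, Pi.single_eq_of_ne hk, zero_mul]
      · funext k
        rw [Pi.mul_apply]
        by_cases hk : k = j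
        · subst hk; simp
        · rw [Pi.single_eq_of_ne hk, Pi.single_eq_of_ne hk, zero_mul]
  obtain ⟨a', rfl⟩ := hπ a
  have hmap : I.map (algebraMap A (C i ⊗[A] C j)) =
      (I.map (algebraMap A ((∀ i, C i) ⊗[A] (∀ i, C i)))).map π.toRingHom := by
    rw [Ideal.map_map]
    congr 1
  rw [hmap] at ha
  obtain ⟨w, hw, hwa⟩ := (Ideal.mem_map_iff_of_surjective π.toRingHom hπ).1 ha
  have hwa' : π w = π a' - 1 := hwa
  refine ⟨((Pi.single i (1 : C i) : ∀ i, C i) ⊗ₜ[A] (Pi.single j (1 : C j) : ∀ i, C i)) * a',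
    fun hmem => ?_, ?_⟩
  · rcases ‹e.IsPrime›.mem_or_mem hmem with h | h
    · exact hij h
    · apply hij
      have h1 := hθ w
      rw [hwa', ← map_one π, ← map_sub, hθ, mul_sub, mul_one] at h1
      have h2 : ((Pi.single i (1 : C i) : ∀ i, C i) ⊗ₜ[A] (Pi.single j (1 : C j) : ∀ i, C i)) =
          ((Pi.single i (1 : C i) : ∀ i, C i) ⊗ₜ[A] (Pi.single j (1 : C j) : ∀ i, C i)) * a' -
          ((Pi.single i (1 : C i) : ∀ i, C i) ⊗ₜ[A] (Pi.single j (1 : C j) : ∀ i, C i)) * w := by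
        rw [← h1]; ring
      rw [h2]
      exact sub_mem hmem (Ideal.mul_mem_left _ _ (hI hw))
  · rw [mul_assoc, ← hθ, map_mul]
    change θ (π a' * Algebra.TensorProduct.map (Pi.evalAlgHom A C i) (Pi.evalAlgHom A C j) z) = 0
    rw [haz, map_zero]

end Pi

/-- Glueing over a henselian pair along a finite cover. -/
theorem exists_section {A : Type u} [CommRing A] (I : Ideal A) [HenselianRing A I] {ι : Type u}
    [Finite ι] (g : ι → A) (hcov : I ⊔ Ideal.span (Set.range g) = ⊤)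
    (Hi : ι → Type u) [∀ i, CommRing (Hi i)] [∀ i, Algebra A (Hi i)] (h : ∀ i, LPH I (g i) (Hi i))
    (Hij : ι → ι → Type u) [∀ i j, CommRing (Hij i j)] [∀ i j, Algebra A (Hij i j)]
    (h' : ∀ i j, LPH I (g i * g j) (Hij i j))
    (σ : ∀ i j, Hi i →ₐ[A] Hij i j) (τ : ∀ i j, Hi j →ₐ[A] Hij i j)
    (s : ∀ i, Hi i) (hs : ∀ i j, σ i j (s i) = τ i j (s j)) :
    ∃ x : A, ∀ i, algebraMap A (Hi i) x = s i := by
  classical
  choose C iC iA φ s' hC hC' hs' using fun i => (h i).exists_etale (s i)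
  let S : ∀ i, C i := s'
  have hsurj : ∀ p : PrimeSpectrum A, I ≤ p.asIdeal →
      ∃ P : PrimeSpectrum (∀ i, C i), PrimeSpectrum.comap (algebraMap A (∀ i, C i)) P = p := by
    intro p hp
    obtain ⟨i, hi⟩ := exists_notMem_of_cover hcov p.2.ne_top hp
    obtain ⟨P, hP⟩ := (hC' i).exists_prime p hp hi
    refine ⟨PrimeSpectrum.comap (Pi.evalRingHom C i) P, ?_⟩
    rw [← hP]
    rfl
  obtain ⟨x, hx⟩ := K145.Glue.glue I S hsurj (fun e he => by
    refine vanAt_pi C I _ (fun i j => ?_) e.asIdeal (by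
      rw [Ideal.map_le_iff_le_comap]; exact he)
    let ψ : C i ⊗[A] C j →ₐ[A] Hij i j :=
      Algebra.TensorProduct.productMap ((σ i j).comp (φ i)) ((τ i j).comp (φ j))
    let _ : Algebra (C i ⊗[A] C j) (Hij i j) := ψ.toRingHom.toAlgebra
    have : IsScalarTower A (C i ⊗[A] C j) (Hij i j) :=
      IsScalarTower.of_algebraMap_eq fun r => (ψ.commutes r).symm
    have hph := ((hC' i).tensor (hC' j)).ph_up (h' i j)
    apply exists_mul_eq_zero hph
    change ψ _ = 0
    rw [map_sub, map_sub]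
    change ψ (S i ⊗ₜ 1) - ψ (1 ⊗ₜ S j) = 0
    simp only [ψ, Algebra.TensorProduct.productMap_apply_tmul, map_one, mul_one, one_mul]
    change σ i j (φ i (s' i)) - τ i j (φ j (s' j)) = 0
    rw [hs', hs', hs, sub_self])
  refine ⟨x, fun i => ?_⟩
  rw [← sub_eq_zero]
  apply eq_zero_of_vanAt
  intro M hM
  have hMp := hM.isPrime
  have hIM : I.map (algebraMap A (Hi i)) ≤ M :=
    (h i).hens.jac.trans (sInf_le ⟨bot_le, hM⟩)
  let f : (∀ i, C i) →+* Hi i := (φ i).toRingHom.comp (Pi.evalRingHom C i)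
  have hf : f.comp (algebraMap A (∀ i, C i)) = algebraMap A (Hi i) := by
    ext a
    exact (φ i).commutes a
  have h1 := hx ⟨M.comap f, inferInstance⟩ (by
    change I ≤ (M.comap f).comap (algebraMap A (∀ i, C i))
    rw [Ideal.comap_comap, hf, ← Ideal.map_le_iff_le_comap]
    exact hIM)
  have h2 := vanAt_map f h1
  have h3 : f (S - algebraMap A (∀ i, C i) x) = s i - algebraMap A (Hi i) x := by
    rw [map_sub]
    congr 1
    · exact hs' i
    · exact congrArg (fun f : A →+* Hi i => f x) hf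
  rw [h3] at h2
  have h4 := vanAt_neg h2
  rwa [neg_sub] at h4

end K145.Sheaf
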