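import Groth.Agent.Hensel.K145.HAway
import Groth.Agent.Hensel.K145.Sheaf

/-!
Localizing and henselizing a directed system of henselian pairs.
-/

set_option autoImplicit false

universe u

namespace K145.HAway

open K145.Univ K145.Nbhd K145.Away K145.Colim K145.FPColim

section HL

variable {A : Type u} [CommRing A] (I : Ideal A)

/-- henselization of a localization, over `(A, I)` -/
abbrev HL (R : Type u) [CommRing R] [Algebra A R] (u : R) : Type u :=
  HLoc R (I.map (algebraMap A R)) u

theorem HL.leq (R : Type u) [CommRing R] [Algebra A R] (u : R) :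
    LEq (I.map (algebraMap A R)) u (HL I R u) := (lph R (I.map (algebraMap A R)) u).leq

theorem HL.hens (R : Type u) [CommRing R] [Algebra A R] (u : R) :
    HenselianRing (HL I R u) (I.map (algebraMap A (HL I R u))) := by
  have := (lph R (I.map (algebraMap A R)) u).hens
  rwa [Ideal.map_map] at this

theorem HL.exists_map {R S : Type u} [CommRing R] [Algebra A R] [CommRing S] [Algebra A S]
    (f : R →ₐ[A] S) (u : R) (v : S) (hv : IsUnit (algebraMap S (HL I S v) (f u))) :
    ∃ g : HL I R u →ₐ[A] HL I S v,
      ∀ x, g (algebraMap R (HL I R u) x) = algebraMap S (HL I S v) (f x) :=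
  exists_algHom (HL.leq I R u) (HL.hens I S v)
    ((IsScalarTower.toAlgHom A S (HL I S v)).comp f) hv

/-- functoriality -/
noncomputable def HL.map {R S : Type u} [CommRing R] [Algebra A R] [CommRing S] [Algebra A S]
    (f : R →ₐ[A] S) (u : R) (v : S) (hv : IsUnit (algebraMap S (HL I S v) (f u))) :
    HL I R u →ₐ[A] HL I S v := (HL.exists_map I f u v hv).choose

theorem HL.map_algebraMap {R S : Type u} [CommRing R] [Algebra A R] [CommRing S] [Algebra A S]
    (f : R →ₐ[A] S) (u : R) (v : S) (hv : IsUnit (algebraMap S (HL I S v) (f u))) (x : R) :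
    HL.map I f u v hv (algebraMap R (HL I R u) x) = algebraMap S (HL I S v) (f x) :=
  (HL.exists_map I f u v hv).choose_spec x

end HL

namespace HSys

variable {A : Type u} [CommRing A] {I : Ideal A} {κ : Type u} [Preorder κ] [IsDirectedOrder κ]
  [Nonempty κ]

/-- A system from its transition maps. -/
theorem exists_lim (obj : κ → Type u) [∀ a, CommRing (obj a)] [∀ a, Algebra A (obj a)]
    (t : ∀ a b, a ≤ b → (obj a →ₐ[A] obj b)) (t_self : ∀ a x, t a a le_rfl x = x)
    (t_trans : ∀ a b c h h' x, t b c h' (t a b h x) = t a c (h.trans h') x) :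
    ∃ (lim : Type u) (_ : CommRing lim) (_ : Algebra A lim) (ι : ∀ a, obj a →ₐ[A] lim),
      IsColim obj (fun a b h => (t a b h).toRingHom) lim (fun a => (ι a).toRingHom) := by
  let T : ∀ a b : κ, a ≤ b → (obj a →+* obj b) := fun a b h => (t a b h).toRingHom
  have hDS : DirectedSystem obj (fun a b h => T a b h) :=
    ⟨fun a x => t_self a x, fun a b c hab hbc x => t_trans _ _ _ _ _ x⟩
  have hcL := isColim_directLimit obj T
  obtain ⟨a₀⟩ := ‹Nonempty κ›
  let iL : Algebra A (DirectLimit obj T) :=
    ((DirectLimit.Ring.of obj T a₀).comp (algebraMap A (obj a₀))).toAlgebra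
  have halg : ∀ (a : κ) (x : A), algebraMap A (DirectLimit obj T) x =
      DirectLimit.Ring.of obj T a (algebraMap A (obj a) x) := by
    intro a x
    obtain ⟨b, h0, h1⟩ := exists_ge_ge a₀ a
    change DirectLimit.Ring.of obj T a₀ (algebraMap A (obj a₀) x) = _
    have e0 := hcL.compat a₀ b h0 (algebraMap A (obj a₀) x)
    have e1 := hcL.compat a b h1 (algebraMap A (obj a) x)
    have e2 : T a₀ b h0 (algebraMap A (obj a₀) x) = T a b h1 (algebraMap A (obj a) x) := by
      change t a₀ b h0 (algebraMap A (obj a₀) x) = t a b h1 (algebraMap A (obj a) x)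
      rw [AlgHom.commutes, AlgHom.commutes]
    rw [← e0, e2, e1]
  exact ⟨DirectLimit obj T, inferInstance, iL, fun a =>
    { DirectLimit.Ring.of obj T a with commutes' := fun r => (halg a r).symm }, hcL⟩

/-- A system from its transition maps. -/
noncomputable def ofDirect (obj : κ → Type u) [∀ a, CommRing (obj a)] [∀ a, Algebra A (obj a)]
    (t : ∀ a b, a ≤ b → (obj a →ₐ[A] obj b)) (t_self : ∀ a x, t a a le_rfl x = x)
    (t_trans : ∀ a b c h h' x, t b c h' (t a b h x) = t a c (h.trans h') x)
    (hens : ∀ a, HenselianRing (obj a) (I.map (algebraMap A (obj a)))) : HSys A I κ :=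
  { obj := obj
    t := t
    t_self := t_self
    hens := hens
    lim := (exists_lim obj t t_self t_trans).choose
    limRing := (exists_lim obj t t_self t_trans).choose_spec.choose
    limAlg := (exists_lim obj t t_self t_trans).choose_spec.choose_spec.choose
    ι := (exists_lim obj t t_self t_trans).choose_spec.choose_spec.choose_spec.choose
    isColim := (exists_lim obj t t_self t_trans).choose_spec.choose_spec.choose_spec.choose_spec }

theorem isUnit_away (S : HSys A I κ) (u : ∀ a, S.obj a) (hu : ∀ a b h, S.t a b h (u a) = u b)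
    (a b : κ) (h : a ≤ b) :
    IsUnit (algebraMap (S.obj b) (HL I (S.obj b) (u b)) (S.t a b h (u a))) := by
  rw [hu]
  exact (HL.leq I (S.obj b) (u b)).unit

/-- The system of henselized localizations. -/
noncomputable def away (S : HSys A I κ) (u : ∀ a, S.obj a)
    (hu : ∀ a b h, S.t a b h (u a) = u b) : HSys A I κ :=
  ofDirect (fun a => HL I (S.obj a) (u a))
    (fun a b h => HL.map I (S.t a b h) (u a) (u b) (isUnit_away S u hu a b h))
    (fun a x => by
      have : HL.map I (S.t a a le_rfl) (u a) (u a) (isUnit_away S u hu a a le_rfl) =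
          AlgHom.id A _ := by
        refine algHom_ext (HL.leq I (S.obj a) (u a)) (HL.hens I (S.obj a) (u a)) _ _ fun x => ?_
        rw [HL.map_algebraMap, S.t_self]; rfl
      rw [this]; rfl)
    (fun a b c h h' x => by
      have : (HL.map I (S.t b c h') (u b) (u c) (isUnit_away S u hu b c h')).comp
          (HL.map I (S.t a b h) (u a) (u b) (isUnit_away S u hu a b h)) =
          HL.map I (S.t a c (h.trans h')) (u a) (u c) (isUnit_away S u hu a c _) := by
        refine algHom_ext (HL.leq I (S.obj a) (u a)) (HL.hens I (S.obj c) (u c)) _ _ fun x => ?_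
        rw [AlgHom.comp_apply, HL.map_algebraMap, HL.map_algebraMap, HL.map_algebraMap, S.t_trans]
      rw [← this]; rfl)
    (fun a => HL.hens I (S.obj a) (u a))

section Away

variable (S : HSys A I κ) (u : ∀ a, S.obj a) (hu : ∀ a b h, S.t a b h (u a) = u b)

noncomputable instance algAwayObj (a : κ) : Algebra (S.obj a) ((S.away u hu).obj a) :=
  inferInstanceAs (Algebra (S.obj a) (HL I (S.obj a) (u a)))

instance towerAwayObj (a : κ) : IsScalarTower A (S.obj a) ((S.away u hu).obj a) :=
  inferInstanceAs (IsScalarTower A (S.obj a) (HL I (S.obj a) (u a)))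

theorem lph_away (a : κ) : LPH (I.map (algebraMap A (S.obj a))) (u a) ((S.away u hu).obj a) :=
  lph (S.obj a) (I.map (algebraMap A (S.obj a))) (u a)

theorem away_t (a b : κ) (h : a ≤ b) (x : S.obj a) :
    (S.away u hu).t a b h (algebraMap (S.obj a) ((S.away u hu).obj a) x) =
      algebraMap (S.obj b) ((S.away u hu).obj b) (S.t a b h x) :=
  HL.map_algebraMap I (S.t a b h) (u a) (u b) (isUnit_away S u hu a b h) x

end Away

/-- maps of systems induce maps of colimits -/
theorem exists_lim_map (S S' : HSys A I κ) (m : ∀ a, S.obj a →ₐ[A] S'.obj a)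
    (hm : ∀ a b h x, m b (S.t a b h x) = S'.t a b h (m a x)) :
    ∃ M : S.lim →ₐ[A] S'.lim, ∀ a x, M (S.ι a x) = S'.ι a (m a x) := by
  obtain ⟨M, hM⟩ := exists_desc S.isColim S'.lim (fun a => ((S'.ι a).comp (m a)).toRingHom)
    (fun a b h x => by
      change S'.ι b (m b (S.t a b h x)) = S'.ι a (m a x)
      rw [hm, S'.compat])
  have hM' : ∀ a x, M (S.ι a x) = S'.ι a (m a x) := fun a x =>
    congrArg (fun f : S.obj a →+* S'.lim => f x) (hM a)
  obtain ⟨a₀⟩ := ‹Nonempty κ›
  refine ⟨{ M with commutes' := fun r => ?_ }, hM'⟩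
  change M (algebraMap A S.lim r) = _
  rw [← (S.ι a₀).commutes, hM', AlgHom.commutes, AlgHom.commutes]

theorem exists_limTo (S : HSys A I κ) (u : ∀ a, S.obj a) (hu : ∀ a b h, S.t a b h (u a) = u b) :
    ∃ M : S.lim →ₐ[A] (S.away u hu).lim, ∀ a x,
      M (S.ι a x) = (S.away u hu).ι a (algebraMap (S.obj a) ((S.away u hu).obj a) x) :=
  exists_lim_map S (S.away u hu)
    (fun a => IsScalarTower.toAlgHom A (S.obj a) ((S.away u hu).obj a))
    (fun a b h x => (S.away_t u hu a b h x).symm)

theorem exists_restrict (S : HSys A I κ) (u : ∀ a, S.obj a) (hu : ∀ a b h, S.t a b h (u a) = u b)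
    (v : ∀ a, S.obj a) (hv : ∀ a b h, S.t a b h (v a) = v b) (w : ∀ a, S.obj a)
    (hvw : ∀ a, v a = u a * w a) :
    ∃ (r : ∀ a, (S.away u hu).obj a →ₐ[A] (S.away v hv).obj a)
      (M : (S.away u hu).lim →ₐ[A] (S.away v hv).lim),
      (∀ a x, r a (algebraMap (S.obj a) ((S.away u hu).obj a) x) =
        algebraMap (S.obj a) ((S.away v hv).obj a) x) ∧
      (∀ a b h x, r b ((S.away u hu).t a b h x) = (S.away v hv).t a b h (r a x)) ∧
      (∀ a x, M ((S.away u hu).ι a x) = (S.away v hv).ι a (r a x)) := by
  have hunit : ∀ a, IsUnit (algebraMap (S.obj a) ((S.away v hv).obj a) (u a)) := by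
    intro a
    have := (S.lph_away v hv a).leq.unit
    rw [hvw, map_mul] at this
    exact isUnit_of_mul_isUnit_left this
  choose r hr using fun a => exists_algHom (S.lph_away u hu a).leq
    ((S.away v hv).hens a) (IsScalarTower.toAlgHom A (S.obj a) ((S.away v hv).obj a)) (hunit a)
  have hr' : ∀ a x, r a (algebraMap (S.obj a) ((S.away u hu).obj a) x) =
        algebraMap (S.obj a) ((S.away v hv).obj a) x := hr
  have hrt : ∀ a b h x, r b ((S.away u hu).t a b h x) = (S.away v hv).t a b h (r a x) := by
    intro a b h x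
    have : (r b).comp ((S.away u hu).t a b h) = ((S.away v hv).t a b h).comp (r a) := by
      refine algHom_ext (S.lph_away u hu a).leq ((S.away v hv).hens b) _ _ fun x => ?_
      rw [AlgHom.comp_apply, AlgHom.comp_apply, hr', S.away_t, S.away_t, hr']
    exact congrArg (fun f : (S.away u hu).obj a →ₐ[A] (S.away v hv).obj b => f x) this
  obtain ⟨M, hM⟩ := exists_lim_map (S.away u hu) (S.away v hv) r hrt
  exact ⟨r, M, hr', hrt, hM⟩

/-- restriction of a system to the indices above a given one -/
noncomputable def above (S : HSys A I κ) (a₀ : κ) : HSys A I {b : κ // a₀ ≤ b} :=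
  { obj := fun b => S.obj b.1
    t := fun b c h => S.t b.1 c.1 h
    t_self := fun b x => S.t_self b.1 x
    hens := fun b => S.hens b.1
    lim := S.lim
    ι := fun b => S.ι b.1
    isColim :=
      { trans := fun a b c h h' x => S.isColim.trans a.1 b.1 c.1 h h' x
        compat := fun a b h x => S.isColim.compat a.1 b.1 h x
        surj := fun x => by
          obtain ⟨a, y, hy⟩ := S.isColim.surj x
          obtain ⟨b, h0, h1⟩ := exists_ge_ge a₀ a
          refine ⟨⟨b, h0⟩, S.t a b h1 y, ?_⟩
          change S.ι b (S.t a b h1 y) = x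
          rw [S.compat]; exact hy
        zero := fun a y h => by
          obtain ⟨b, hb, hb'⟩ := S.isColim.zero a.1 y h
          exact ⟨⟨b, a.2.trans hb⟩, hb, hb'⟩ } }

end HSys

instance instDirAbove {κ : Type*} [Preorder κ] [IsDirectedOrder κ] (a₀ : κ) :
    IsDirectedOrder {b : κ // a₀ ≤ b} := by
  refine ⟨fun b c => ?_⟩
  obtain ⟨d, hb, hc⟩ := exists_ge_ge b.1 c.1
  exact ⟨⟨d, b.2.trans hb⟩, hb, hc⟩

end K145.HAway
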