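import Groth.Agent.Hensel.K145.Faithful

/-!
Henselian finitely presented maps: models of finite presentation.
-/

set_option autoImplicit false

universe u

open TensorProduct

namespace K145.Model

open K145.Univ K145.Nbhd Groth.Agent.Etalg.PairHens2

attribute [local instance] Algebra.TensorProduct.rightAlgebra

/-- `HEquiv` for the second factor of a tensor product. -/
theorem hequiv_tensor_right {R : Type u} [CommRing R] {I : Ideal R} {R' : Type u} [CommRing R']
    [Algebra R R'] (h : HEquiv R I R') (S : Type u) [CommRing S] [Algebra R S] :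
    HEquiv S (I.map (algebraMap R S)) (R' ⊗[R] S) :=
  h.baseChange S (R' ⊗[R] S)

/-- A finitely presented algebra over a henselization has a finitely presented model over the base
with the same maps to henselian pairs. -/
theorem exists_model {A : Type u} [CommRing A] (I : Ideal A) (R : Type u) [CommRing R] [Algebra A R]
    [Algebra.FinitePresentation A R] (B : Type u) [CommRing B] [Algebra R B] [Algebra A B]
    [IsScalarTower A R B] (hB : Hens2.IsPairHenselization R (I.map (algebraMap A R)) B)
    (S : Type u) [CommRing S] [Algebra B S] [Algebra A S] [IsScalarTower A B S]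
    [Algebra.FinitePresentation B S] :
    ∃ (T : Type u) (_ : CommRing T) (_ : Algebra A T) (_ : Algebra T S) (_ : IsScalarTower A T S),
      Algebra.FinitePresentation A T ∧ HEquiv T (I.map (algebraMap A T)) S := by
  obtain ⟨R', _, _, _, _, S', _, _, hR', hS', ⟨e⟩⟩ := exists_nbhd_descend hB S
  have := hR'.etale
  let _ : Algebra A R' := ((algebraMap R R').comp (algebraMap A R)).toAlgebra
  have : IsScalarTower A R R' := IsScalarTower.of_algebraMap_eq fun r => rfl
  have : IsScalarTower A R' B := by
    refine IsScalarTower.of_algebraMap_eq fun r => ?_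
    rw [IsScalarTower.algebraMap_apply A R R', ← IsScalarTower.algebraMap_apply R R' B,
      ← IsScalarTower.algebraMap_apply]
  let _ : Algebra A S' := ((algebraMap R' S').comp (algebraMap A R')).toAlgebra
  have : IsScalarTower A R' S' := IsScalarTower.of_algebraMap_eq fun r => rfl
  let j : S' →+* S := (e : B ⊗[R'] S' →ₐ[B] S).toRingHom.comp (algebraMap S' (B ⊗[R'] S'))
  have hj : ∀ x, j x = e (1 ⊗ₜ x) := fun _ => rfl
  let _ : Algebra S' S := j.toAlgebra
  have hj' : ∀ x : S', algebraMap S' S x = e (1 ⊗ₜ x) := fun _ => rfl
  have htow : IsScalarTower A S' S := by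
    refine IsScalarTower.of_algebraMap_eq fun a => ?_
    have h1 : (1 : B) ⊗ₜ[R'] (algebraMap R' S' (algebraMap A R' a)) =
        (algebraMap R' B (algebraMap A R' a)) ⊗ₜ[R'] (1 : S') := by
      rw [Algebra.algebraMap_eq_smul_one (algebraMap A R' a),
        Algebra.algebraMap_eq_smul_one (algebraMap A R' a), TensorProduct.smul_tmul]
    rw [hj', IsScalarTower.algebraMap_apply A R' S', IsScalarTower.algebraMap_apply A B S,
      IsScalarTower.algebraMap_apply A R' B, ← AlgEquiv.commutes e, h1]
    rfl
  have hfp1 : Algebra.FinitePresentation A R' := Algebra.FinitePresentation.trans A R R'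
  have hfp2 : Algebra.FinitePresentation A S' := Algebra.FinitePresentation.trans A R' S'
  refine ⟨S', inferInstance, inferInstance, inferInstance, inferInstance, hfp2, ?_⟩
  have h1 : HEquiv R' ((I.map (algebraMap A R)).map (algebraMap R R')) B :=
    hR'.hequiv.of_comp_left hB.2
  have h2 := hequiv_tensor_right h1 S'
  rw [Ideal.map_map (algebraMap A R), ← IsScalarTower.algebraMap_eq A R R', Ideal.map_map,
    ← IsScalarTower.algebraMap_eq A R' S'] at h2
  let ε : (B ⊗[R'] S') ≃ₐ[S'] S :=
    { e.toRingEquiv with
      commutes' := fun x => rfl }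
  exact h2.of_equiv ε

/-- Surjection from a henselized polynomial ring. -/
theorem exists_surjection {A : Type u} [CommRing A] (I : Ideal A) (R : Type u) [CommRing R]
    [Algebra A R] [Algebra.FinitePresentation A R] (B : Type u) [CommRing B] [Algebra R B]
    [Algebra A B] [IsScalarTower A R B]
    (hB : Hens2.IsPairHenselization R (I.map (algebraMap A R)) B) :
    ∃ (n : ℕ) (P : Type u) (_ : CommRing P) (_ : Algebra (MvPolynomial (Fin n) A) P) (_ : Algebra A P)
        (_ : IsScalarTower A (MvPolynomial (Fin n) A) P),
        Hens2.IsPairHenselization (MvPolynomial (Fin n) A)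
          (I.map (algebraMap A (MvPolynomial (Fin n) A))) P ∧
        ∃ φ : P →ₐ[A] B, Function.Surjective φ ∧ (RingHom.ker φ).FG := by
  obtain ⟨n, p, hp, hk⟩ := (Algebra.FinitePresentation.out : ∃ (n : ℕ)
    (f : MvPolynomial (Fin n) A →ₐ[A] R), Function.Surjective f ∧ (RingHom.ker f.toRingHom).FG)
  let X := MvPolynomial (Fin n) A
  let _ : Algebra X R := p.toRingHom.toAlgebra
  have : IsScalarTower A X R := IsScalarTower.of_algebraMap_eq fun r => (p.commutes r).symm
  have hint : Algebra.IsIntegral X R :=
    Algebra.IsIntegral.of_surjective (Algebra.ofId X R) hp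
  obtain ⟨P, _, _, hP⟩ := K145.Faithful.exists_ph X (I.map (algebraMap A X))
  let _ : Algebra A P := ((algebraMap X P).comp (algebraMap A X)).toAlgebra
  have : IsScalarTower A X P := IsScalarTower.of_algebraMap_eq fun r => rfl
  refine ⟨n, P, inferInstance, inferInstance, inferInstance, inferInstance, hP, ?_⟩
  have h1 := isPairHenselization_tensor_integral hP R
  rw [Ideal.map_map, ← IsScalarTower.algebraMap_eq A X R] at h1
  obtain ⟨e⟩ := exists_equiv h1 hB
  have hRfp : Algebra.FinitePresentation X R :=
    Algebra.FinitePresentation.of_restrict_scalars_finitePresentation A X R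
  -- the map `P → R ⊗ P → B`
  let φ : P →ₐ[A] B :=
    ((e : R ⊗[X] P →ₐ[R] B).restrictScalars A).comp
      ((Algebra.TensorProduct.includeRight : P →ₐ[X] R ⊗[X] P).restrictScalars A)
  have hincl : Function.Surjective (Algebra.TensorProduct.includeRight : P →ₐ[X] R ⊗[X] P) := by
    intro z
    induction z with
    | zero => exact ⟨0, map_zero _⟩
    | add x y hx hy =>
      obtain ⟨a, rfl⟩ := hx
      obtain ⟨b, rfl⟩ := hy
      exact ⟨a + b, map_add _ _ _⟩
    | tmul r x =>
      obtain ⟨q, hq⟩ := hp r
      refine ⟨q • x, ?_⟩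
      rw [Algebra.TensorProduct.includeRight_apply, TensorProduct.tmul_smul, TensorProduct.smul_tmul',
        Algebra.smul_def, mul_one]
      congr 1
  have hφ : Function.Surjective φ := e.surjective.comp hincl
  refine ⟨φ, hφ, ?_⟩
  -- `B` is finitely presented over `P`
  have hfpT : Algebra.FinitePresentation P (P ⊗[X] R) := inferInstance
  let ψ : P →ₐ[P] P ⊗[X] R := Algebra.ofId _ _
  have hψ : Function.Surjective ψ := by
    intro z
    obtain ⟨x, hx⟩ := hincl (Algebra.TensorProduct.comm X P R z)
    refine ⟨x, ?_⟩
    apply (Algebra.TensorProduct.comm X P R).injective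
    rw [← hx]
    change Algebra.TensorProduct.comm X P R (x ⊗ₜ 1) = 1 ⊗ₜ x
    rw [Algebra.TensorProduct.comm_tmul]
  have hker := Algebra.FinitePresentation.ker_fG_of_surjective ψ hψ
  have : RingHom.ker φ = RingHom.ker ψ.toRingHom := by
    ext x
    change e (1 ⊗ₜ x) = 0 ↔ x ⊗ₜ 1 = 0
    rw [EmbeddingLike.map_eq_zero_iff,
      ← (Algebra.TensorProduct.comm X P R).injective.eq_iff, Algebra.TensorProduct.comm_tmul, map_zero]
  rw [this]
  exact hker

/-- A quotient of a henselization (of a finitely presented algebra) by a finitely generated ideal. -/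
theorem exists_ph_of_surjection {A : Type u} [CommRing A] (I : Ideal A) (R : Type u) [CommRing R]
    [Algebra A R] [Algebra.FinitePresentation A R] (P : Type u) [CommRing P] [Algebra R P]
    [Algebra A P] [IsScalarTower A R P]
    (hP : Hens2.IsPairHenselization R (I.map (algebraMap A R)) P) (B : Type u) [CommRing B]
    [Algebra A B] (hB : HenselianRing B (I.map (algebraMap A B))) (φ : P →ₐ[A] B)
    (hφ : Function.Surjective φ) (hker : (RingHom.ker φ).FG) :
    ∃ (T : Type u) (_ : CommRing T) (_ : Algebra A T) (_ : Algebra T B) (_ : IsScalarTower A T B),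
      Algebra.FinitePresentation A T ∧ Hens2.IsPairHenselization T (I.map (algebraMap A T)) B := by
  let _ : Algebra P B := φ.toRingHom.toAlgebra
  have : IsScalarTower A P B := IsScalarTower.of_algebraMap_eq fun r => (φ.commutes r).symm
  have hfp : Algebra.FinitePresentation P B :=
    Algebra.FinitePresentation.of_surjective (f := Algebra.ofId P B) hφ hker
  obtain ⟨T, _, _, _, _, hT, hTB⟩ := exists_model I R P hP B
  refine ⟨T, inferInstance, inferInstance, inferInstance, inferInstance, hT, ?_, hTB⟩
  rwa [Ideal.map_map, ← IsScalarTower.algebraMap_eq]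

end K145.Model
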