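import Groth.Agent.Hensel.K145.FPColim
import Groth.Agent.Hensel.K145.Model

/-!
Retracts of henselizations of finitely presented algebras; the limit criterion for Henselian finite presentation.
-/

set_option autoImplicit false

universe u

namespace K145.Retract

open K145.Univ K145.Nbhd K145.Colim K145.FPColim

/-- A retract of a henselization of a finitely presented algebra is of the same form. -/
theorem exists_of_retract {A : Type u} [CommRing A] (I : Ideal A) (R : Type u) [CommRing R]
    [Algebra A R] [Algebra.FinitePresentation A R] (P : Type u) [CommRing P] [Algebra R P]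
    [Algebra A P] [IsScalarTower A R P]
    (hP : Hens2.IsPairHenselization R (I.map (algebraMap A R)) P) (B : Type u) [CommRing B]
    [Algebra A B] (hB : HenselianRing B (I.map (algebraMap A B))) (π : P →ₐ[A] B) (φ : B →ₐ[A] P)
    (hπφ : ∀ x, π (φ x) = x) :
    ∃ (T : Type u) (_ : CommRing T) (_ : Algebra A T) (_ : Algebra T B) (_ : IsScalarTower A T B),
      Algebra.FinitePresentation A T ∧ Hens2.IsPairHenselization T (I.map (algebraMap A T)) B := by
  classical
  have hsurj : Function.Surjective π := fun x => ⟨φ x, hπφ x⟩
  refine K145.Model.exists_ph_of_surjection I R P hP B hB π hsurj ?_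
  obtain ⟨s, hs⟩ := (Algebra.FiniteType.out : (⊤ : Subalgebra A R).FG)
  let e : P →ₐ[A] P := φ.comp π
  refine ⟨s.image (fun x => algebraMap R P x - e (algebraMap R P x)), ?_⟩
  apply le_antisymm
  · rw [Ideal.span_le]
    intro y hy
    obtain ⟨x, hx, rfl⟩ := Finset.mem_image.1 hy
    change π (algebraMap R P x - φ (π (algebraMap R P x))) = 0
    rw [map_sub, hπφ, sub_self]
  · intro x hx
    set K : Ideal P := Ideal.span ((s.image (fun x => algebraMap R P x - e (algebraMap R P x)) :
      Finset P) : Set P) with hK
    have hQ := henselianRing_quotient hP.1 K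
    have key : (Ideal.Quotient.mk K).comp e.toRingHom = Ideal.Quotient.mk K := by
      refine HEquiv.ringHom_ext hP.2 _ hQ ?_ ?_
      · let f₁ : R →ₐ[A] P ⧸ K := ((Ideal.Quotient.mkₐ A K).comp e).comp (IsScalarTower.toAlgHom A R P)
        let f₂ : R →ₐ[A] P ⧸ K := (Ideal.Quotient.mkₐ A K).comp (IsScalarTower.toAlgHom A R P)
        have h1 : f₁ = f₂ := by
          refine AlgHom.ext_of_adjoin_eq_top hs ?_
          intro y hy
          change Ideal.Quotient.mk K (e (algebraMap R P y)) = Ideal.Quotient.mk K (algebraMap R P y)
          rw [eq_comm, Ideal.Quotient.eq]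
          exact Ideal.subset_span (Finset.mem_image_of_mem _ hy)
        exact congrArg AlgHom.toRingHom h1
      · rw [← Ideal.map_map]
    have h2 : Ideal.Quotient.mk K x = 0 := by
      have h3 := congrArg (fun f : P →+* P ⧸ K => f x) key
      have h4 : e x = 0 := by
        change φ (π x) = 0
        have : π x = 0 := hx
        rw [this, map_zero]
      change Ideal.Quotient.mk K (e x) = Ideal.Quotient.mk K x at h3
      rw [← h3, h4, map_zero]
    exact Ideal.Quotient.eq_zero_iff_mem.1 h2

end K145.Retract
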