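import Groth.Agent.Hensel.K145.HSys
import Groth.Agent.Hensel.K145.Retract

/-!
The limit criterion for Henselian finite presentation (existence half of the mapping property suffices).
-/

set_option autoImplicit false

universe u

namespace K145.Limit

open K145.Univ K145.Nbhd K145.Away K145.Colim K145.FPColim K145.HAway

theorem ph_of_lph_one {A : Type u} [CommRing A] {I : Ideal A} {B : Type u} [CommRing B] [Algebra A B]
    (h : LPH I (1 : A) B) : Hens2.IsPairHenselization A I B :=
  ⟨h.hens, fun C _ J f hC hJ => h.leq.ext C J f hC hJ (by rw [map_one]; exact isUnit_one)⟩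

/-- If `A`-algebra maps from `B` to colimits of henselian pairs factor through a stage, then `B` is the
henselization of a finitely presented `A`-algebra. -/
theorem exists_of_limit (A : Type u) [CommRing A] (I : Ideal A) (B : Type u) [CommRing B]
    [Algebra A B] [HenselianRing B (I.map (algebraMap A B))]
    (h : ∀ (κ : Type u) [Preorder κ] [IsDirectedOrder κ] [Nonempty κ] (S : HSys A I κ)
      (χ : B →ₐ[A] S.lim), ∃ (a : κ) (φ : B →ₐ[A] S.obj a), ∀ x, S.ι a (φ x) = χ x) :
    ∃ (R : Type u) (_ : CommRing R) (_ : Algebra A R) (_ : Algebra R B) (_ : IsScalarTower A R B),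
      Algebra.FinitePresentation A R ∧ Hens2.IsPairHenselization R (I.map (algebraMap A R)) B := by
  classical
  obtain ⟨κ, _, _, _, R, _, _, t, β, hfp, ht, hβ, htid, hc⟩ := K145.FPColim.exists_isColim A B
  let tA : ∀ a b, a ≤ b → (R a →ₐ[A] R b) := fun a b h =>
    { t a b h with commutes' := fun r => congrArg (fun f : A →+* R b => f r) (ht a b h) }
  have hu : ∀ a b (h : a ≤ b), IsUnit (algebraMap (R b) (HL I (R b) 1) (tA a b h 1)) := by
    intro a b h
    rw [map_one, map_one]; exact isUnit_one
  let S : HSys A I κ := HSys.ofDirect (fun a => HL I (R a) 1)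
    (fun a b h => HL.map I (tA a b h) 1 1 (hu a b h))
    (fun a x => by
      have : HL.map I (tA a a le_rfl) 1 1 (hu a a le_rfl) = AlgHom.id A _ := by
        refine algHom_ext (HL.leq I (R a) 1) (HL.hens I (R a) 1) _ _ fun x => ?_
        rw [HL.map_algebraMap, show tA a a le_rfl x = x from htid a x]; rfl
      rw [this]; rfl)
    (fun a b c h h' x => by
      have : (HL.map I (tA b c h') 1 1 (hu b c h')).comp (HL.map I (tA a b h) 1 1 (hu a b h)) =
          HL.map I (tA a c (h.trans h')) 1 1 (hu a c (h.trans h')) := by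
        refine algHom_ext (HL.leq I (R a) 1) (HL.hens I (R c) 1) _ _ fun x => ?_
        rw [AlgHom.comp_apply, HL.map_algebraMap, HL.map_algebraMap, HL.map_algebraMap,
          show tA b c h' (tA a b h x) = tA a c (h.trans h') x from hc.trans a b c h h' x]
      rw [← this]; rfl)
    (fun a => HL.hens I (R a) 1)
  let o : ∀ a, R a →ₐ[A] S.obj a := fun a => IsScalarTower.toAlgHom A (R a) (HL I (R a) 1)
  have hot : ∀ a b h x, S.t a b h (o a x) = o b (t a b h x) := fun a b h x =>
    HL.map_algebraMap I (tA a b h) 1 1 (hu a b h) x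
  have hphs : ∀ a, Hens2.IsPairHenselization (R a) (I.map (algebraMap A (R a))) (HL I (R a) 1) :=
    fun a => ph_of_lph_one (lph (R a) (I.map (algebraMap A (R a))) 1)
  -- the map from `B` to the colimit
  obtain ⟨χ, hχ⟩ := K145.FPColim.exists_desc hc S.lim
    (fun a => ((S.ι a).comp (o a)).toRingHom) (fun a b hab x => by
      change S.ι b (o b (t a b hab x)) = S.ι a (o a x)
      rw [← hot, S.compat])
  have hχapp : ∀ a (x : R a), χ (β a x) = S.ι a (o a x) :=
    fun a x => congrArg (fun f : R a →+* S.lim => f x) (hχ a)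
  have hβapp : ∀ a (x : A), β a (algebraMap A (R a) x) = algebraMap A B x :=
    fun a x => congrArg (fun f : A →+* B => f x) (hβ a)
  obtain ⟨a₀⟩ := ‹Nonempty κ›
  let χA : B →ₐ[A] S.lim :=
    { χ with
      commutes' := fun r => by
        change χ (algebraMap A B r) = _
        rw [← hβapp a₀, hχapp, AlgHom.commutes, AlgHom.commutes] }
  obtain ⟨a, φ, hφ⟩ := h κ S χA
  -- the maps from the henselizations to `B`
  let βA : ∀ a, R a →ₐ[A] B := fun a => { β a with commutes' := fun r => hβapp a r }
  choose π hπ using fun a => exists_algHom (HL.leq I (R a) 1) (D := B) inferInstance (βA a)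
    (by rw [map_one]; exact isUnit_one)
  have hπ' : ∀ a x, π a (o a x) = β a x := hπ
  have hπT : ∀ a b (hab : a ≤ b) (x : S.obj a), π b (S.t a b hab x) = π a x := by
    intro a b hab x
    have : (π b).comp (S.t a b hab) = π a := by
      refine algHom_ext (HL.leq I (R a) 1) inferInstance _ _ fun x => ?_
      change π b (S.t a b hab (o a x)) = π a (o a x)
      rw [hot, hπ', hπ', hc.compat]
    exact congrArg (fun f : S.obj a →ₐ[A] B => f x) this
  obtain ⟨πL, hπL⟩ := K145.FPColim.exists_desc S.isColim B (fun a => (π a).toRingHom)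
    (fun a b hab x => hπT a b hab x)
  have hπLapp : ∀ a (x : S.obj a), πL (S.ι a x) = π a x :=
    fun a x => congrArg (fun f : S.obj a →+* B => f x) (hπL a)
  have hid' : πL.comp χ = RingHom.id B := by
    refine K145.FPColim.hom_ext hc fun a => ?_
    ext x
    change πL (χ (β a x)) = β a x
    rw [hχapp, hπLapp, hπ']
  have := hfp a
  refine K145.Retract.exists_of_retract I (R a) (HL I (R a) 1) (hphs a) B inferInstance (π a) φ
    fun x => ?_
  have h1 := hπLapp a (φ x)
  rw [hφ] at h1
  refine h1.symm.trans ?_
  exact congrArg (fun f : B →+* B => f x) hid'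

end K145.Limit
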