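import Groth.Agent.Hensel.K145.Nbhd
import Mathlib.RingTheory.TensorProduct.Quotient

/-!
Truncations of henselizations: `B/I^r B = R/I^r R` for `B` a henselization of `(R, IR)`, `R` an `A`-algebra.
-/

set_option autoImplicit false

universe u

open TensorProduct

namespace K145.Trunc

open K145.Univ K145.Nbhd Groth.Agent.Etalg.PairHens2

section

variable {A : Type u} [CommRing A] (I : Ideal A) (R B : Type u) [CommRing R] [Algebra A R]
  [CommRing B] [Algebra R B] [Algebra A B] [IsScalarTower A R B]

/-- The natural map of truncations. -/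
noncomputable def truncHom : (R ⧸ I.map (algebraMap A R)) →ₐ[A ⧸ I] (B ⧸ I.map (algebraMap A B)) where
  toRingHom := Ideal.quotientMap _ (algebraMap R B) (by
    rw [← Ideal.map_le_iff_le_comap, Ideal.map_map, ← IsScalarTower.algebraMap_eq])
  commutes' x := by
    obtain ⟨a, rfl⟩ := Ideal.Quotient.mk_surjective x
    change Ideal.quotientMap _ _ _ (Ideal.Quotient.mk _ (algebraMap A R a)) =
      Ideal.Quotient.mk _ (algebraMap A B a)
    rw [Ideal.quotientMap_mk, ← IsScalarTower.algebraMap_apply]

@[simp]
theorem truncHom_mk (x : R) : truncHom I R B (Ideal.Quotient.mk _ x) =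
    Ideal.Quotient.mk _ (algebraMap R B x) := rfl

variable {I R B}

theorem bijective_iff : Function.Bijective (truncHom I R B) ↔
    (∀ x : B, ∃ r : R, x - algebraMap R B r ∈ I.map (algebraMap A B)) ∧
      (∀ r : R, algebraMap R B r ∈ I.map (algebraMap A B) → r ∈ I.map (algebraMap A R)) := by
  constructor
  · rintro ⟨h1, h2⟩
    constructor
    · intro x
      obtain ⟨y, hy⟩ := h2 (Ideal.Quotient.mk _ x)
      obtain ⟨r, rfl⟩ := Ideal.Quotient.mk_surjective y
      rw [truncHom_mk, eq_comm, Ideal.Quotient.eq] at hy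
      exact ⟨r, hy⟩
    · intro r hr
      rw [← Ideal.Quotient.eq_zero_iff_mem]
      apply h1
      rw [truncHom_mk, map_zero, Ideal.Quotient.eq_zero_iff_mem]
      exact hr
  · rintro ⟨h1, h2⟩
    constructor
    · rw [injective_iff_map_eq_zero]
      intro x hx
      obtain ⟨a, rfl⟩ := Ideal.Quotient.mk_surjective x
      rw [truncHom_mk, Ideal.Quotient.eq_zero_iff_mem] at hx
      exact Ideal.Quotient.eq_zero_iff_mem.2 (h2 a hx)
    · intro y
      obtain ⟨x, rfl⟩ := Ideal.Quotient.mk_surjective y
      obtain ⟨r, hr⟩ := h1 x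
      refine ⟨Ideal.Quotient.mk _ r, ?_⟩
      rw [truncHom_mk, eq_comm, Ideal.Quotient.eq]
      exact hr

/-- The truncations of a henselization. -/
theorem truncHom_bijective (hB : Hens2.IsPairHenselization R (I.map (algebraMap A R)) B) (r : ℕ) :
    Function.Bijective (truncHom (I ^ r) R B) := by
  have hf := Groth.Agent.Etalg.PairHens2.flat B hB
  have h := bij_iff.1 (Groth.Agent.Etalg.PairHens2.quot_pow_bijective
    (Groth.Agent.Etalg.PairHens2.quot_bijective B hB) r)
  have h1 : ((I.map (algebraMap A R)) ^ r).map (algebraMap R B) = (I ^ r).map (algebraMap A B) := by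
    rw [← Ideal.map_pow, Ideal.map_map, ← IsScalarTower.algebraMap_eq]
  rw [h1, ← Ideal.map_pow] at h
  exact bijective_iff.2 h

noncomputable def truncEquiv (hB : Hens2.IsPairHenselization R (I.map (algebraMap A R)) B) (r : ℕ) :
    (R ⧸ (I ^ r).map (algebraMap A R)) ≃ₐ[A ⧸ I ^ r] (B ⧸ (I ^ r).map (algebraMap A B)) :=
  AlgEquiv.ofBijective _ (truncHom_bijective hB r)

/-- étale base change -/
theorem etale_trunc [Algebra.Etale A R] (J : Ideal A) :
    Algebra.Etale (A ⧸ J) (R ⧸ J.map (algebraMap A R)) :=
  Algebra.Etale.of_equiv (Algebra.TensorProduct.quotIdealMapEquivQuotTensor R J).symm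

theorem smooth_trunc [Algebra.Smooth A R] (J : Ideal A) :
    Algebra.Smooth (A ⧸ J) (R ⧸ J.map (algebraMap A R)) :=
  Algebra.Smooth.of_equiv (Algebra.TensorProduct.quotIdealMapEquivQuotTensor R J).symm

theorem fp_trunc [Algebra.FinitePresentation A R] (J : Ideal A) :
    Algebra.FinitePresentation (A ⧸ J) (R ⧸ J.map (algebraMap A R)) :=
  Algebra.FinitePresentation.equiv (Algebra.TensorProduct.quotIdealMapEquivQuotTensor R J).symm

theorem flat_of_flat (hB : Hens2.IsPairHenselization R (I.map (algebraMap A R)) B)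
    [Module.Flat A R] : Module.Flat A B := by
  have hf := Groth.Agent.Etalg.PairHens2.flat B hB
  exact Module.Flat.trans A R B

end

end K145.Trunc
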