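import Groth.Agent.Etalg.PairHens2
import Groth.Agent.S0523
import Groth.Agent.S0526

/-!
Universal-property calculus for henselizations of pairs.

`HEquiv R I R'` says that `R → R'` has the unique extension property with respect to all henselian pairs;
`Hens2.IsPairHenselization R I B` is `HenselianRing B (I B)` together with `HEquiv R I B`.
-/

set_option autoImplicit false

universe u

open TensorProduct

namespace K145.Univ

/-- `R → R'` has the unique extension property for maps of pairs from `(R, I)` to henselian pairs. -/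
def HEquiv (R : Type u) [CommRing R] (I : Ideal R) (R' : Type u) [CommRing R'] [Algebra R R'] : Prop :=
  ∀ (C : Type u) [CommRing C] (J : Ideal C) (f : R →+* C), HenselianRing C J → I.map f ≤ J →
    ∃! g : R' →+* C, g.comp (algebraMap R R') = f

section Basic

variable {R : Type u} [CommRing R] {I : Ideal R} {R' : Type u} [CommRing R'] [Algebra R R']

theorem hequiv_of_isPairHenselization (h : Hens2.IsPairHenselization R I R') : HEquiv R I R' := h.2

theorem isPairHenselization_iff : Hens2.IsPairHenselization R I R' ↔
    HenselianRing R' (I.map (algebraMap R R')) ∧ HEquiv R I R' := Iff.rfl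

/-- Algebra form of the extension property: existence. -/
theorem HEquiv.exists_algHom (h : HEquiv R I R') (C : Type u) [CommRing C] [Algebra R C]
    (J : Ideal C) (hC : HenselianRing C J) (hJ : I.map (algebraMap R C) ≤ J) :
    Nonempty (R' →ₐ[R] C) := by
  obtain ⟨g, hg, -⟩ := h C J (algebraMap R C) hC hJ
  exact ⟨{ g with commutes' := fun r => congrArg (fun f : R →+* C => f r) hg }⟩

/-- Uniqueness, for ring homs. -/
theorem HEquiv.ringHom_ext (h : HEquiv R I R') {C : Type u} [CommRing C] (J : Ideal C)
    (hC : HenselianRing C J) {g₁ g₂ : R' →+* C}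
    (hg : g₁.comp (algebraMap R R') = g₂.comp (algebraMap R R'))
    (hJ : I.map (g₂.comp (algebraMap R R')) ≤ J) : g₁ = g₂ :=
  (h C J (g₂.comp (algebraMap R R')) hC hJ).unique hg rfl

theorem HEquiv.trans {R'' : Type u} [CommRing R''] [Algebra R R''] [Algebra R' R'']
    [IsScalarTower R R' R''] (h : HEquiv R I R') (h' : HEquiv R' (I.map (algebraMap R R')) R'') :
    HEquiv R I R'' := by
  intro C _ J f hC hJ
  obtain ⟨g, hg, hgu⟩ := h C J f hC hJ
  obtain ⟨k, hk, hku⟩ := h' C J g hC (by rw [Ideal.map_map]; simpa [hg] using hJ)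
  refine ⟨k, ?_, fun k' hk' => ?_⟩
  · show k.comp (algebraMap R R'') = f
    rw [IsScalarTower.algebraMap_eq R R' R'', ← RingHom.comp_assoc]
    rw [hk]; exact hg
  · apply hku
    apply hgu
    show (k'.comp (algebraMap R' R'')).comp (algebraMap R R') = f
    rw [RingHom.comp_assoc, ← IsScalarTower.algebraMap_eq]
    exact hk'

/-- Cancellation on the left. -/
theorem HEquiv.of_comp_left {R'' : Type u} [CommRing R''] [Algebra R R''] [Algebra R' R'']
    [IsScalarTower R R' R''] (h : HEquiv R I R') (h' : HEquiv R I R'') :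
    HEquiv R' (I.map (algebraMap R R')) R'' := by
  intro C _ J f hC hJ
  rw [Ideal.map_map] at hJ
  obtain ⟨k, hk, hku⟩ := h' C J (f.comp (algebraMap R R')) hC hJ
  refine ⟨k, ?_, fun k' hk' => ?_⟩
  · show k.comp (algebraMap R' R'') = f
    refine h.ringHom_ext J hC ?_ hJ
    rw [RingHom.comp_assoc, ← IsScalarTower.algebraMap_eq]
    exact hk
  · apply hku
    show k'.comp (algebraMap R R'') = _
    rw [IsScalarTower.algebraMap_eq R R' R'', ← RingHom.comp_assoc]
    congr 1

theorem HEquiv.of_equiv {R'' : Type u} [CommRing R''] [Algebra R R''] (h : HEquiv R I R')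
    (e : R' ≃ₐ[R] R'') : HEquiv R I R'' := by
  intro C _ J f hC hJ
  obtain ⟨g, hg, hgu⟩ := h C J f hC hJ
  refine ⟨g.comp (e.symm : R'' →ₐ[R] R').toRingHom, ?_, fun k hk => ?_⟩
  · ext x
    have := congrArg (fun f : R →+* C => f x) hg
    simpa using this
  · have := hgu (k.comp (e : R' →ₐ[R] R'').toRingHom) (by
      ext x
      have := congrArg (fun f : R →+* C => f x) hk
      simpa using this)
    rw [← this]
    ext x
    simp

theorem HEquiv.congr_ideal {I' : Ideal R} (h : HEquiv R I R') (hI : I = I') : HEquiv R I' R' := hI ▸ h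

/-- Base change. -/
theorem HEquiv.tensor (h : HEquiv R I R') (S : Type u) [CommRing S] [Algebra R S] :
    HEquiv S (I.map (algebraMap R S)) (S ⊗[R] R') := by
  intro C _ J f hC hJ
  rw [Ideal.map_map] at hJ
  obtain ⟨g, hg, hgu⟩ := h C J (f.comp (algebraMap R S)) hC hJ
  let _ : Algebra R C := (f.comp (algebraMap R S)).toAlgebra
  let f' : S →ₐ[R] C := { f with commutes' := fun r => rfl }
  let g' : R' →ₐ[R] C := { g with commutes' := fun r => congrArg (fun f : R →+* C => f r) hg }
  refine ⟨(Algebra.TensorProduct.lift f' g' (fun _ _ => Commute.all _ _)).toRingHom, ?_, fun k hk => ?_⟩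
  · ext x
    change (Algebra.TensorProduct.lift f' g' (fun _ _ => Commute.all _ _)) (x ⊗ₜ 1) = f x
    rw [Algebra.TensorProduct.lift_tmul, map_one, mul_one]
    rfl
  · have hk1 : ∀ s, k (s ⊗ₜ 1) = f s := fun s => congrArg (fun f : S →+* C => f s) hk
    have hk2 : k.comp (Algebra.TensorProduct.includeRight : R' →ₐ[R] S ⊗[R] R').toRingHom = g := by
      apply hgu
      ext r
      change k (1 ⊗ₜ algebraMap R R' r) = f (algebraMap R S r)
      rw [← hk1, Algebra.algebraMap_eq_smul_one, Algebra.algebraMap_eq_smul_one, TensorProduct.smul_tmul]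
    have hk3 : ∀ s, k (1 ⊗ₜ s) = g s := fun s => congrArg (fun f : R' →+* C => f s) hk2
    refine RingHom.ext fun x => ?_
    induction x with
    | zero => simp
    | add x y hx hy => rw [map_add, map_add, hx, hy]
    | tmul x y =>
      change _ = (Algebra.TensorProduct.lift f' g' (fun _ _ => Commute.all _ _)) (x ⊗ₜ y)
      rw [Algebra.TensorProduct.lift_tmul]
      change _ = f x * g y
      rw [← hk1, ← hk3, ← map_mul, Algebra.TensorProduct.tmul_mul_tmul, mul_one, one_mul]

/-- Base change, for an abstract pushout. -/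
theorem HEquiv.baseChange (h : HEquiv R I R') (S S' : Type u) [CommRing S] [Algebra R S]
    [CommRing S'] [Algebra R S'] [Algebra S S'] [Algebra R' S'] [IsScalarTower R S S']
    [IsScalarTower R R' S'] [Algebra.IsPushout R S R' S'] :
    HEquiv S (I.map (algebraMap R S)) S' :=
  (h.tensor S).of_equiv (Algebra.IsPushout.equiv R S R' S')

end Basic

section PH

variable {R : Type u} [CommRing R] {I : Ideal R}

/-- Henselizations along `R → R'`: from `R'` down to `R`. -/
theorem isPairHenselization_of_hequiv {R' B : Type u} [CommRing R'] [Algebra R R'] [CommRing B]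
    [Algebra R B] [Algebra R' B] [IsScalarTower R R' B] (h : HEquiv R I R')
    (hB : Hens2.IsPairHenselization R' (I.map (algebraMap R R')) B) :
    Hens2.IsPairHenselization R I B := by
  refine ⟨?_, h.trans hB.2⟩
  have := hB.1
  rwa [Ideal.map_map, ← IsScalarTower.algebraMap_eq] at this

/-- Henselizations along `R → R'`: from `R` up to `R'`. -/
theorem isPairHenselization_up {R' B : Type u} [CommRing R'] [Algebra R R'] [CommRing B]
    [Algebra R B] [Algebra R' B] [IsScalarTower R R' B] (h : HEquiv R I R')
    (hB : Hens2.IsPairHenselization R I B) :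
    Hens2.IsPairHenselization R' (I.map (algebraMap R R')) B := by
  refine ⟨?_, h.of_comp_left hB.2⟩
  have := hB.1
  rwa [Ideal.map_map, ← IsScalarTower.algebraMap_eq]

/-- Integral base change of a henselization. -/
theorem isPairHenselization_tensor_integral {B : Type u} [CommRing B] [Algebra R B]
    (hB : Hens2.IsPairHenselization R I B) (S : Type u) [CommRing S] [Algebra R S]
    [Algebra.IsIntegral R S] :
    Hens2.IsPairHenselization S (I.map (algebraMap R S)) (S ⊗[R] B) := by
  refine ⟨?_, HEquiv.tensor hB.2 S⟩
  have := hB.1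
  let _ : Algebra B (S ⊗[R] B) := Algebra.TensorProduct.rightAlgebra
  have : Algebra.IsIntegral B (S ⊗[R] B) := by
    let e : B ⊗[R] S ≃ₐ[B] S ⊗[R] B :=
      { (Algebra.TensorProduct.comm R B S).toRingEquiv with
        commutes' := fun b => by
          change Algebra.TensorProduct.comm R B S (b ⊗ₜ 1) = _
          rw [Algebra.TensorProduct.comm_tmul]
          rfl }
    exact Algebra.IsIntegral.of_surjective e.toAlgHom e.surjective
  have h1 := Groth.Agent.S0526.result B (I.map (algebraMap R B)) (S ⊗[R] B)
  rw [Ideal.map_map] at h1 ⊢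
  have h2 : (algebraMap B (S ⊗[R] B)).comp (algebraMap R B) =
      (algebraMap S (S ⊗[R] B)).comp (algebraMap R S) := by
    ext r
    change (1 : S) ⊗ₜ[R] (algebraMap R B r) = (algebraMap R S r) ⊗ₜ[R] (1 : B)
    rw [Algebra.algebraMap_eq_smul_one, Algebra.algebraMap_eq_smul_one, TensorProduct.smul_tmul]
  rwa [h2] at h1

/-- The quotient of a henselian pair. -/
theorem henselianRing_quotient {B : Type u} [CommRing B] {J : Ideal B} (h : HenselianRing B J)
    (K : Ideal B) : HenselianRing (B ⧸ K) (J.map (Ideal.Quotient.mk K)) :=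
  Groth.Agent.S0526.result B J (B ⧸ K)

theorem henselianRing_of_surjective {B C : Type u} [CommRing B] [CommRing C] {J : Ideal B}
    (h : HenselianRing B J) (φ : B →+* C) (hφ : Function.Surjective φ) :
    HenselianRing C (J.map φ) := by
  let _ : Algebra B C := φ.toAlgebra
  have : Algebra.IsIntegral B C := Algebra.IsIntegral.of_surjective (Algebra.ofId B C) hφ
  exact Groth.Agent.S0526.result B J C

end PH

end K145.Univ
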